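import Mathlib
import Cfsg.Agent.Lib.Helper5.FlagCount
import Cfsg.Agent.Lib.Helper5.GLBruhat1

/-!
The action of the general linear group on chains of subspaces: every chain is the image of a chain
of initial coordinate subspaces.
-/

namespace Cfsg.Agent.Lib.Helper5.StGL

open Module Finset Matrix
open Cfsg.Agent.Lib.Helper5.GLBruhat Cfsg.Agent.Lib.Helper5.FlagCount

variable {n : ℕ} {F : Type*} [Field F]

/-- The action of an invertible matrix on subspaces. -/
def act (g : GL (Fin n) F) (W : Submodule F (Fin n → F)) : Submodule F (Fin n → F) :=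
  W.map (Matrix.mulVecLin (g : Matrix (Fin n) (Fin n) F))

theorem act_one (W : Submodule F (Fin n → F)) : act (1 : GL (Fin n) F) W = W := by
  unfold act
  rw [Units.val_one, Matrix.mulVecLin_one, Submodule.map_id]

theorem act_mul (g h : GL (Fin n) F) (W : Submodule F (Fin n → F)) :
    act (g * h) W = act g (act h W) := by
  unfold act
  rw [Units.val_mul, Matrix.mulVecLin_mul, Submodule.map_comp]

theorem act_mono (g : GL (Fin n) F) {W W' : Submodule F (Fin n → F)} (h : W ≤ W') :
    act g W ≤ act g W' := Submodule.map_mono h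

theorem act_inv_act (g : GL (Fin n) F) (W : Submodule F (Fin n → F)) : act g⁻¹ (act g W) = W := by
  rw [← act_mul, inv_mul_cancel, act_one]

theorem act_act_inv (g : GL (Fin n) F) (W : Submodule F (Fin n → F)) : act g (act g⁻¹ W) = W := by
  rw [← act_mul, mul_inv_cancel, act_one]

theorem act_injective (g : GL (Fin n) F) : Function.Injective (act g) := by
  intro W W' h
  rw [← act_inv_act g W, h, act_inv_act]

theorem finrank_act (g : GL (Fin n) F) (W : Submodule F (Fin n → F)) :
    finrank F (act g W) = finrank F W := by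
  apply le_antisymm (Submodule.finrank_map_le _ _)
  conv_lhs => rw [← act_inv_act g W]
  exact Submodule.finrank_map_le _ _

theorem act_eq_of_le {g : GL (Fin n) F} {W : Submodule F (Fin n → F)} (h : act g W ≤ W) :
    act g W = W :=
  Submodule.eq_of_le_of_finrank_eq h (finrank_act g W)

theorem act_le_iff {g : GL (Fin n) F} {W W' : Submodule F (Fin n → F)} :
    act g W ≤ act g W' ↔ W ≤ W' := by
  constructor
  · intro h
    have := act_mono g⁻¹ h
    rwa [act_inv_act, act_inv_act] at this
  · exact act_mono g

/-- The span of the first `d` standard basis vectors. -/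
def Esub (n : ℕ) (F : Type*) [Field F] (d : ℕ) : Submodule F (Fin n → F) :=
  coordSub (univ.filter fun i : Fin n => i.val < d)

theorem mem_Esub {d : ℕ} {v : Fin n → F} : v ∈ Esub n F d ↔ ∀ i : Fin n, d ≤ i.val → v i = 0 := by
  unfold Esub
  rw [mem_coordSub]
  refine forall_congr' fun i => ?_
  rw [mem_filter, not_and, not_lt]
  constructor
  · intro h hd
    exact h (fun _ => hd)
  · intro h hd
    exact h (hd (mem_univ _))

theorem Esub_mono {d d' : ℕ} (h : d ≤ d') : Esub n F d ≤ Esub n F d' := by
  intro v hv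
  rw [mem_Esub] at hv ⊢
  intro i hi
  exact hv i (h.trans hi)

theorem finrank_Esub {d : ℕ} (hd : d ≤ n) : finrank F (Esub n F d) = d := by
  unfold Esub
  rw [finrank_coordSub]
  have : (univ.filter fun i : Fin n => i.val < d).map Fin.valEmbedding = Finset.range d := by
    ext k
    simp only [mem_map, mem_filter, mem_univ, true_and, Fin.valEmbedding_apply, Finset.mem_range]
    constructor
    · rintro ⟨i, hi, rfl⟩
      exact hi
    · intro hk
      exact ⟨⟨k, by omega⟩, hk, rfl⟩
  rw [← Finset.card_map Fin.valEmbedding, this, Finset.card_range]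

theorem single_mem_Esub {d : ℕ} (i : Fin n) (hi : i.val < d) :
    (Pi.single i 1 : Fin n → F) ∈ Esub n F d := by
  rw [mem_Esub]
  intro k hk
  rw [Pi.single_apply, if_neg]
  intro h
  rw [h] at hk
  omega

theorem mulVec_mem_of_cols {g : Matrix (Fin n) (Fin n) F} {W : Submodule F (Fin n → F)} {d : ℕ}
    (h : ∀ i : Fin n, i.val < d → g.col i ∈ W) (v : Fin n → F) (hv : v ∈ Esub n F d) :
    g *ᵥ v ∈ W := by
  rw [Matrix.mulVec_eq_sum]
  apply Submodule.sum_mem
  intro i _
  rw [op_smul_eq_smul]
  by_cases hi : i.val < d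
  · exact W.smul_mem _ (h i hi)
  · rw [mem_Esub] at hv
    rw [hv i (not_lt.1 hi), zero_smul]
    exact W.zero_mem

section chains

/-- The set of the dimensions of the members. -/
noncomputable def dims (C : Finset (Submodule F (Fin n → F))) : Finset ℕ :=
  C.image (fun W : Submodule F (Fin n → F) => finrank F W)

theorem mem_dims {C : Finset (Submodule F (Fin n → F))} {d : ℕ} :
    d ∈ dims C ↔ ∃ W ∈ C, finrank F W = d := by
  unfold dims
  rw [mem_image]

theorem chain_finrank_inj {C : Finset (Submodule F (Fin n → F))}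
    (hC : IsChain (· ≤ ·) (C : Set (Submodule F (Fin n → F))))
    {W W' : Submodule F (Fin n → F)} (hW : W ∈ C) (hW' : W' ∈ C)
    (h : finrank F W = finrank F W') : W = W' := by
  rcases hC.total hW hW' with h1 | h1
  · exact Submodule.eq_of_le_of_finrank_eq h1 h
  · exact (Submodule.eq_of_le_of_finrank_eq h1 h.symm).symm

theorem card_dims {C : Finset (Submodule F (Fin n → F))}
    (hC : IsChain (· ≤ ·) (C : Set (Submodule F (Fin n → F)))) : (dims C).card = C.card := by
  unfold dims
  apply Finset.card_image_of_injOn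
  intro W hW W' hW' h
  exact chain_finrank_inj hC hW hW' h

open Classical in
/-- The chain of initial coordinate subspaces with the given dimensions. -/
noncomputable def stdChain (n : ℕ) (F : Type*) [Field F] (D : Finset ℕ) :
    Finset (Submodule F (Fin n → F)) := D.image (Esub n F)

open Classical in
/-- The image of the standard chain. -/
noncomputable def Phi (D : Finset ℕ) (g : GL (Fin n) F) : Finset (Submodule F (Fin n → F)) :=
  (stdChain n F D).image (act g)

theorem mem_Phi {D : Finset ℕ} {g : GL (Fin n) F} {W : Submodule F (Fin n → F)} :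
    W ∈ Phi D g ↔ ∃ d ∈ D, act g (Esub n F d) = W := by
  classical
  unfold Phi stdChain
  rw [mem_image]
  constructor
  · rintro ⟨W', hW', rfl⟩
    rw [mem_image] at hW'
    obtain ⟨d, hd, rfl⟩ := hW'
    exact ⟨d, hd, rfl⟩
  · rintro ⟨d, hd, rfl⟩
    exact ⟨Esub n F d, mem_image.2 ⟨d, hd, rfl⟩, rfl⟩

theorem isChain_Phi (D : Finset ℕ) (g : GL (Fin n) F) :
    IsChain (· ≤ ·) (Phi D g : Set (Submodule F (Fin n → F))) := by
  intro W hW W' hW' _
  rw [mem_coe, mem_Phi] at hW hW'
  obtain ⟨d, -, rfl⟩ := hW
  obtain ⟨d', -, rfl⟩ := hW'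
  rcases le_total d d' with h | h
  · exact Or.inl (act_mono g (Esub_mono h))
  · exact Or.inr (act_mono g (Esub_mono h))

theorem dims_Phi {D : Finset ℕ} (hD : ∀ d ∈ D, d ≤ n) (g : GL (Fin n) F) : dims (Phi D g) = D := by
  ext d
  rw [mem_dims]
  constructor
  · rintro ⟨W, hW, rfl⟩
    rw [mem_Phi] at hW
    obtain ⟨d, hd, rfl⟩ := hW
    rw [finrank_act, finrank_Esub (hD d hd)]
    exact hd
  · intro hd
    exact ⟨act g (Esub n F d), mem_Phi.2 ⟨d, hd, rfl⟩, by rw [finrank_act, finrank_Esub (hD d hd)]⟩

theorem Phi_mul (D : Finset ℕ) (g h : GL (Fin n) F) :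
    Phi D (g * h) = by classical exact (Phi D h).image (act g) := by
  classical
  ext W
  rw [mem_Phi, mem_image]
  constructor
  · rintro ⟨d, hd, rfl⟩
    exact ⟨act h (Esub n F d), mem_Phi.2 ⟨d, hd, rfl⟩, (act_mul g h _).symm⟩
  · rintro ⟨W', hW', rfl⟩
    rw [mem_Phi] at hW'
    obtain ⟨d, hd, rfl⟩ := hW'
    exact ⟨d, hd, act_mul g h _⟩

end chains

section transitive
variable [Fintype F]

theorem chain_inf_mem {α : Type*} [Lattice α] [OrderTop α] {C : Finset α}
    (hC : IsChain (· ≤ ·) (C : Set α)) (hne : C.Nonempty) : C.inf id ∈ C := by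
  rw [← Finset.inf'_eq_inf hne]
  refine Finset.inf'_mem (C : Set α) ?_ C hne id (fun i hi => hi)
  intro x hx y hy
  rcases hC.total hx hy with h | h
  · rw [inf_of_le_left h]; exact hx
  · rw [inf_of_le_right h]; exact hy

open Classical in
/-- The smallest member of dimension more than `j`, or everything. -/
noncomputable def Umin (C : Finset (Submodule F (Fin n → F))) (j : Fin n) :
    Submodule F (Fin n → F) :=
  (C.filter (fun W : Submodule F (Fin n → F) => j.val < finrank F W)).inf id

theorem Umin_mono (C : Finset (Submodule F (Fin n → F))) : Monotone (Umin C) := by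
  classical
  intro j j' hjj'
  unfold Umin
  apply Finset.inf_mono
  intro W hW
  rw [mem_filter] at hW ⊢
  exact ⟨hW.1, lt_of_le_of_lt hjj' hW.2⟩

theorem Umin_le {C : Finset (Submodule F (Fin n → F))} {j : Fin n} {W : Submodule F (Fin n → F)}
    (hW : W ∈ C) (hj : j.val < finrank F W) : Umin C j ≤ W := by
  classical
  unfold Umin
  exact Finset.inf_le (f := id) (mem_filter.2 ⟨hW, hj⟩)

theorem lt_finrank_Umin {C : Finset (Submodule F (Fin n → F))}
    (hC : IsChain (· ≤ ·) (C : Set (Submodule F (Fin n → F)))) (j : Fin n) :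
    j.val < finrank F (Umin C j) := by
  classical
  unfold Umin
  by_cases hne : (C.filter (fun W : Submodule F (Fin n → F) => j.val < finrank F W)).Nonempty
  · have hchain : IsChain (· ≤ ·)
        ((C.filter (fun W : Submodule F (Fin n → F) => j.val < finrank F W) : Finset _) : Set (Submodule F (Fin n → F))) :=
      hC.mono (by
        intro W hW
        exact (mem_filter.1 hW).1)
    exact (mem_filter.1 (chain_inf_mem hchain hne)).2
  · rw [not_nonempty_iff_eq_empty.1 hne, Finset.inf_empty, finrank_top, finrank_fin_fun]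
    exact j.2

/-- Every chain of subspaces is the image of a standard chain. -/
theorem exists_Phi_eq (C : Finset (Submodule F (Fin n → F)))
    (hC : IsChain (· ≤ ·) (C : Set (Submodule F (Fin n → F)))) :
    ∃ g : GL (Fin n) F, Phi (dims C) g = C := by
  classical
  have hpos : 0 < Nat.card {s : Fin n → (Fin n → F) //
      LinearIndependent F s ∧ ∀ j, s j ∈ Umin C j} := by
    rw [card_nested n _ (Umin_mono C)]
    apply Finset.prod_pos
    intro j _
    have := Nat.pow_lt_pow_right (Fintype.one_lt_card (α := F)) (lt_finrank_Umin hC j)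
    omega
  obtain ⟨⟨s, hs, hsU⟩⟩ := (Nat.card_pos_iff.1 hpos).1
  refine ⟨(Matrix.equiv_GL_linearindependent n).symm ⟨s, hs⟩, ?_⟩
  set g := (Matrix.equiv_GL_linearindependent n).symm ⟨s, hs⟩ with hg
  have hcol : ∀ i, (g : Matrix (Fin n) (Fin n) F).col i = s i := by
    intro i
    have := congrArg Subtype.val ((Matrix.equiv_GL_linearindependent n).apply_symm_apply ⟨s, hs⟩)
    exact congrFun this i
  have key : ∀ W ∈ C, act g (Esub n F (finrank F W)) = W := by
    intro W hW
    have hle : act g (Esub n F (finrank F W)) ≤ W := by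
      rintro _ ⟨v, hv, rfl⟩
      rw [Matrix.mulVecLin_apply]
      refine mulVec_mem_of_cols ?_ v hv
      intro i hi
      rw [hcol]
      exact Umin_le hW hi (hsU i)
    refine Submodule.eq_of_le_of_finrank_eq hle ?_
    rw [finrank_act, finrank_Esub]
    exact (Submodule.finrank_le W).trans (by rw [finrank_fin_fun])
  ext W
  rw [mem_Phi]
  constructor
  · rintro ⟨d, hd, rfl⟩
    rw [mem_dims] at hd
    obtain ⟨W, hW, rfl⟩ := hd
    rw [key W hW]
    exact hW
  · intro hW
    exact ⟨finrank F W, mem_dims.2 ⟨W, hW, rfl⟩, key W hW⟩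

end transitive

end Cfsg.Agent.Lib.Helper5.StGL
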