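import Mathlib

/-!
The permutations `κ` of `Fin n` with `κ i ≤ i + 1` for all `i`, and the alternating sum over them.
-/

namespace Cfsg.Agent.Lib.Helper5.StGL

open Finset Equiv Equiv.Perm

/-- Partial sums. -/
def psm {n : ℕ} (μ : Fin n → ℕ) (j : Fin n) : ℕ := ∑ k, if k ≤ j then μ k else 0

/-- The set of the partial sums lying strictly between `0` and `n`. -/
def Dset {n : ℕ} (μ : Fin n → ℕ) : Finset ℕ :=
  (univ.image (psm μ)).filter (fun d => 0 < d ∧ d < n)

theorem mem_Dset {n : ℕ} {μ : Fin n → ℕ} {d : ℕ} :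
    d ∈ Dset μ ↔ (∃ j, psm μ j = d) ∧ 0 < d ∧ d < n := by
  unfold Dset
  rw [mem_filter, mem_image]
  simp

/-- The composition attached to a permutation. -/
def muOf {n : ℕ} (κ : Perm (Fin n)) : Fin n → ℕ := fun i => 1 + i.val - (κ i).val

/-- The condition on the permutation. -/
def Hess {n : ℕ} (κ : Perm (Fin n)) : Prop := ∀ i, (κ i).val ≤ 1 + i.val

theorem psm_zero {n : ℕ} (μ : Fin (n + 1) → ℕ) : psm μ 0 = μ 0 := by
  unfold psm
  rw [Fin.sum_univ_succ]
  simp

theorem psm_succ {n : ℕ} (μ : Fin (n + 1) → ℕ) (j : Fin n) :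
    psm μ j.succ = μ 0 + psm (fun k => μ k.succ) j := by
  unfold psm
  rw [Fin.sum_univ_succ]
  simp [Fin.succ_le_succ_iff]

section zero
variable {n : ℕ} (e : Perm (Fin n))

theorem muOf_zero_zero : muOf (decomposeFin.symm ((0 : Fin (n + 1)), e)) 0 = 1 := by
  unfold muOf
  rw [decomposeFin_symm_apply_zero]
  simp

theorem muOf_zero_succ (j : Fin n) :
    muOf (decomposeFin.symm ((0 : Fin (n + 1)), e)) j.succ = muOf e j := by
  unfold muOf
  rw [decomposeFin_symm_apply_succ, Equiv.swap_self, Equiv.refl_apply]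
  simp only [Fin.val_succ]
  omega

theorem hess_zero : Hess (decomposeFin.symm ((0 : Fin (n + 1)), e)) ↔ Hess e := by
  unfold Hess
  rw [Fin.forall_fin_succ]
  rw [decomposeFin_symm_apply_zero]
  simp only [Fin.val_zero, zero_le, true_and]
  refine forall_congr' fun j => ?_
  rw [decomposeFin_symm_apply_succ, Equiv.swap_self, Equiv.refl_apply]
  simp only [Fin.val_succ]
  omega

theorem psm_zero_succ (j : Fin n) :
    psm (muOf (decomposeFin.symm ((0 : Fin (n + 1)), e))) j.succ = 1 + psm (muOf e) j := by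
  rw [psm_succ, muOf_zero_zero]
  congr 2
  funext k
  exact muOf_zero_succ e k

theorem Dset_zero (hn : 1 ≤ n) :
    Dset (muOf (decomposeFin.symm ((0 : Fin (n + 1)), e)))
      = insert 1 ((Dset (muOf e)).image Nat.succ) := by
  ext d
  rw [mem_Dset, mem_insert, mem_image]
  constructor
  · rintro ⟨⟨j', hj'⟩, h0, hd⟩
    refine Fin.cases ?_ (fun j => ?_) j' hj'
    · intro h
      rw [psm_zero, muOf_zero_zero] at h
      exact Or.inl h.symm
    · intro h
      rw [psm_zero_succ] at h
      by_cases hz : psm (muOf e) j = 0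
      · left; omega
      · right
        refine ⟨psm (muOf e) j, mem_Dset.2 ⟨⟨j, rfl⟩, by omega, by omega⟩, ?_⟩
        simp only [Nat.succ_eq_add_one]; omega
  · rintro (rfl | ⟨d', hd', rfl⟩)
    · refine ⟨⟨0, ?_⟩, by omega, by omega⟩
      rw [psm_zero, muOf_zero_zero]
    · rw [mem_Dset] at hd'
      obtain ⟨⟨j, hj⟩, h0, hd⟩ := hd'
      refine ⟨⟨j.succ, ?_⟩, by simp, by simp only [Nat.succ_eq_add_one]; omega⟩
      rw [psm_zero_succ, hj]
      simp only [Nat.succ_eq_add_one]; omega

end zero

section one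
variable {m : ℕ} (e : Perm (Fin (m + 1)))

theorem one_apply_zero : decomposeFin.symm ((1 : Fin (m + 2)), e) 0 = 1 :=
  decomposeFin_symm_apply_zero _ _

theorem one_apply_succ (j : Fin (m + 1)) :
    ((decomposeFin.symm ((1 : Fin (m + 2)), e)) j.succ).val
      = if e j = 0 then 0 else (e j).val + 1 := by
  rw [decomposeFin_symm_apply_succ]
  split_ifs with h
  · rw [h, Fin.succ_zero_eq_one, Equiv.swap_apply_right]
    rfl
  · rw [Equiv.swap_apply_of_ne_of_ne (Fin.succ_ne_zero _)]
    · rfl
    · rw [← Fin.succ_zero_eq_one]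
      intro h'
      exact h (Fin.succ_injective _ h')

theorem muOf_one_zero : muOf (decomposeFin.symm ((1 : Fin (m + 2)), e)) 0 = 0 := by
  unfold muOf
  rw [one_apply_zero]
  simp

theorem muOf_one_succ (j : Fin (m + 1)) :
    muOf (decomposeFin.symm ((1 : Fin (m + 2)), e)) j.succ
      = muOf e j + if j = e.symm 0 then 1 else 0 := by
  unfold muOf
  rw [one_apply_succ]
  have hiff : e j = 0 ↔ j = e.symm 0 := by
    rw [Equiv.eq_symm_apply]
  by_cases h : e j = 0
  · rw [if_pos h, if_pos (hiff.1 h), h]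
    simp only [Fin.val_succ, Fin.val_zero]
    omega
  · rw [if_neg h, if_neg (fun h' => h (hiff.2 h'))]
    simp only [Fin.val_succ]
    omega

theorem hess_one : Hess (decomposeFin.symm ((1 : Fin (m + 2)), e)) ↔ Hess e := by
  unfold Hess
  rw [Fin.forall_fin_succ]
  rw [one_apply_zero]
  have h1 : ((1 : Fin (m + 2))).val ≤ 1 + (0 : Fin (m + 2)).val := by simp
  simp only [h1, true_and]
  refine forall_congr' fun j => ?_
  rw [one_apply_succ]
  split_ifs with h
  · rw [h]
    simp
  · simp only [Fin.val_succ]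
    omega

theorem psm_one_succ (j : Fin (m + 1)) :
    psm (muOf (decomposeFin.symm ((1 : Fin (m + 2)), e))) j.succ
      = psm (muOf e) j + if e.symm 0 ≤ j then 1 else 0 := by
  rw [psm_succ, muOf_one_zero, zero_add]
  unfold psm
  have : ∀ k : Fin (m + 1), (if k ≤ j then muOf (decomposeFin.symm ((1 : Fin (m + 2)), e)) k.succ else 0)
      = (if k ≤ j then muOf e k else 0) + (if k = e.symm 0 then (if e.symm 0 ≤ j then 1 else 0) else 0) := by
    intro k
    rw [muOf_one_succ]
    by_cases hk : k = e.symm 0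
    · subst hk
      by_cases hj : e.symm 0 ≤ j
      · simp [hj]
      · simp [hj]
    · simp [hk]
  rw [Finset.sum_congr rfl fun k _ => this k, Finset.sum_add_distrib, Finset.sum_ite_eq' univ (e.symm 0)]
  simp

/-- Before the position mapped to `0` the permutation is the shift. -/
theorem hess_shift (he : Hess e) : ∀ (v : ℕ) (k : Fin (m + 1)), k.val = v → k < e.symm 0 →
    (e k).val = k.val + 1 := by
  intro v
  induction v using Nat.strong_induction_on with
  | _ v ih =>
    intro k hkv hk
    have h1 := he k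
    have h2 : e k ≠ 0 := by
      intro h
      rw [← Equiv.eq_symm_apply] at h
      exact absurd h hk.ne
    have h2' : (e k).val ≠ 0 := fun h => h2 (Fin.ext h)
    by_contra hne
    have hle : (e k).val ≤ k.val := by omega
    let k' : Fin (m + 1) := ⟨(e k).val - 1, by omega⟩
    have hk'lt : k'.val < v := by
      simp only [k']
      omega
    have hk'k : k' < k := by
      rw [Fin.lt_def]
      omega
    have h3 := ih k'.val hk'lt k' rfl (hk'k.trans hk)
    have h4 : e k' = e k := by
      apply Fin.ext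
      rw [h3]
      simp only [k']
      omega
    exact absurd (e.injective h4) hk'k.ne

theorem psm_pos_iff (he : Hess e) (j : Fin (m + 1)) : 0 < psm (muOf e) j ↔ e.symm 0 ≤ j := by
  constructor
  · intro h
    by_contra hlt
    rw [not_le] at hlt
    have : psm (muOf e) j = 0 := by
      unfold psm
      apply Finset.sum_eq_zero
      intro k _
      split_ifs with hk
      · unfold muOf
        rw [hess_shift e he k.val k rfl (lt_of_le_of_lt hk hlt)]
        omega
      · rfl
    omega
  · intro h
    unfold psm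
    have h1 : (if e.symm 0 ≤ j then muOf e (e.symm 0) else 0)
        ≤ ∑ k, if k ≤ j then muOf e k else 0 :=
      Finset.single_le_sum (f := fun k => if k ≤ j then muOf e k else 0)
        (fun _ _ => Nat.zero_le _) (mem_univ (e.symm 0))
    rw [if_pos h] at h1
    have h2 : muOf e (e.symm 0) = 1 + (e.symm 0).val := by
      unfold muOf
      rw [Equiv.apply_symm_apply]
      simp
    omega

theorem Dset_one (he : Hess e) :
    Dset (muOf (decomposeFin.symm ((1 : Fin (m + 2)), e))) = (Dset (muOf e)).image Nat.succ := by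
  ext d
  rw [mem_Dset, mem_image]
  constructor
  · rintro ⟨⟨j', hj'⟩, h0, hd⟩
    refine Fin.cases ?_ (fun j => ?_) j' hj'
    · intro h
      rw [psm_zero, muOf_one_zero] at h
      omega
    · intro h
      rw [psm_one_succ] at h
      by_cases hj : e.symm 0 ≤ j
      · rw [if_pos hj] at h
        have hpos := (psm_pos_iff e he j).2 hj
        refine ⟨psm (muOf e) j, mem_Dset.2 ⟨⟨j, rfl⟩, hpos, by omega⟩, ?_⟩
        simp only [Nat.succ_eq_add_one]; omega
      · rw [if_neg hj] at h
        have hz : ¬ 0 < psm (muOf e) j := fun hp => hj ((psm_pos_iff e he j).1 hp)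
        omega
  · rintro ⟨d', hd', rfl⟩
    rw [mem_Dset] at hd'
    obtain ⟨⟨j, hj⟩, h0, hd⟩ := hd'
    refine ⟨⟨j.succ, ?_⟩, by simp, by simp only [Nat.succ_eq_add_one]; omega⟩
    rw [psm_one_succ, hj, if_pos ((psm_pos_iff e he j).1 (by omega))]

end one

end Cfsg.Agent.Lib.Helper5.StGL
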