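import Mathlib
import Cfsg.Agent.Lib.Helper5.StGL.Flag1
import Cfsg.Agent.Lib.Helper5.StGL.Hess
import Cfsg.Agent.Lib.Helper5.FlagCount2
import Cfsg.Agent.Lib.Helper5.CompLabel

/-!
The standard parabolic subgroups as stabilisers of chains of initial coordinate subspaces.
-/

namespace Cfsg.Agent.Lib.Helper5.StGL

open Module Finset Matrix
open Cfsg.Agent.Lib.Helper5.GLBruhat Cfsg.Agent.Lib.Helper5.FlagCount
open Cfsg.Agent.Lib.Helper5.CompLabel

variable {n : ℕ} {F : Type*} [Field F] [Fintype F]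

theorem psm_eq_psum (μ : Fin n → ℕ) (j : Fin n) : psm μ j = psum μ j := by
  unfold psm psum
  rw [Finset.sum_filter]

theorem colSub_eq_Esub (μ : Fin n → ℕ) (hμ : ∑ k, μ k = n) (j : Fin n) :
    ∃ b : Fin n, psum' μ b ≤ j.val ∧ j.val < psum μ b ∧
      colSub (F := F) μ j = Esub n F (psum μ b) := by
  obtain ⟨b, h1, h2⟩ := exists_block μ hμ j
  refine ⟨b, h1, h2, ?_⟩
  have hlab : Cfsg.compLabel μ j = b.val := compLabel_eq_of_mem μ j b h1 h2
  unfold colSub Esub
  congr 1
  ext i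
  rw [mem_filter, mem_filter, hlab]
  simp only [mem_univ, true_and]
  obtain ⟨bi, g1, g2⟩ := exists_block μ hμ i
  rw [compLabel_eq_of_mem μ i bi g1 g2]
  constructor
  · intro h
    exact lt_of_lt_of_le g2 (psum_mono μ (Fin.le_def.2 h))
  · intro h
    by_contra hlt
    rw [not_le] at hlt
    have := psum_le_psum' μ (Fin.lt_def.2 hlt)
    omega

theorem exists_colSub_eq_Esub (μ : Fin n → ℕ) (hμ : ∑ k, μ k = n) (d : ℕ) (hd : d ∈ Dset μ) :
    ∃ j : Fin n, colSub (F := F) μ j = Esub n F d := by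
  rw [mem_Dset] at hd
  obtain ⟨⟨k, hk⟩, h0, hdn⟩ := hd
  rw [psm_eq_psum] at hk
  refine ⟨⟨d - 1, by omega⟩, ?_⟩
  obtain ⟨b, h1, h2, h3⟩ := colSub_eq_Esub (F := F) μ hμ ⟨d - 1, by omega⟩
  rw [h3]
  congr 1
  simp only at h1 h2
  apply le_antisymm
  · by_contra hlt
    rw [not_le] at hlt
    have hbk : b ≤ k := by
      by_contra hkb
      rw [not_le] at hkb
      have := psum_le_psum' μ hkb
      omega
    have := psum_mono μ hbk
    omega
  · omega

theorem mem_parabolicGL_iff_act (μ : Fin n → ℕ) (hμ : ∑ k, μ k = n) (g : GL (Fin n) F) :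
    g ∈ Cfsg.parabolicGL n F μ ↔ ∀ d ∈ Dset μ, act g (Esub n F d) = Esub n F d := by
  constructor
  · intro hg d hd
    obtain ⟨j, hj⟩ := exists_colSub_eq_Esub (F := F) μ hμ d hd
    rw [← hj]
    exact map_coordSub_of_blockTriangular (Cfsg.compLabel μ) g hg
      ((Cfsg.parabolicGL n F μ).inv_mem hg) (Cfsg.compLabel μ j)
  · intro h
    rw [mem_parabolicGL_iff]
    intro j
    obtain ⟨b, h1, h2, h3⟩ := colSub_eq_Esub (F := F) μ hμ j
    rw [h3]
    have hcol : (Matrix.equiv_GL_linearindependent n g).1 j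
        = (g : Matrix (Fin n) (Fin n) F) *ᵥ Pi.single j 1 := by
      rw [Matrix.mulVec_single_one]
      rfl
    rw [hcol]
    have hle : psum μ b ≤ n := by
      have := psum_le_total μ b
      omega
    rcases hle.lt_or_eq with hlt | heq
    · have hd : psum μ b ∈ Dset μ := by
        rw [mem_Dset]
        exact ⟨⟨b, psm_eq_psum μ b⟩, by omega, hlt⟩
      rw [← h (psum μ b) hd]
      exact ⟨Pi.single j 1, single_mem_Esub j h2, rfl⟩
    · rw [heq, mem_Esub]
      intro i hi
      exact absurd i.2 (by omega)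

end Cfsg.Agent.Lib.Helper5.StGL
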