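import Mathlib
import Cfsg.Prelude.Def_LinearParabolics
import Cfsg.Agent.Lib.Helper5.StGL.Flag2

/-!
The permutation character of the general linear group on the cosets of a standard parabolic
subgroup counts the chains of subspaces, of the given dimensions, that the element stabilises.
-/

namespace Cfsg.Agent.Lib.Helper5.StGL

open Module Finset Matrix

variable {n : ℕ} {F : Type*} [Field F] [Fintype F]

theorem Dset_le (μ : Fin n → ℕ) : ∀ d ∈ Dset μ, d ≤ n := by
  intro d hd
  rw [mem_Dset] at hd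
  omega

theorem Phi_eq_one_iff (μ : Fin n → ℕ) (hμ : ∑ k, μ k = n) (h : GL (Fin n) F) :
    Phi (Dset μ) h = Phi (Dset μ) 1 ↔ h ∈ Cfsg.parabolicGL n F μ := by
  rw [mem_parabolicGL_iff_act μ hμ]
  constructor
  · intro heq d hd
    have h1 : act h (Esub n F d) ∈ Phi (Dset μ) h := mem_Phi.2 ⟨d, hd, rfl⟩
    rw [heq, mem_Phi] at h1
    obtain ⟨d', hd', h2⟩ := h1
    rw [act_one] at h2
    have h3 : d' = d := by
      have := congrArg (fun W : Submodule F (Fin n → F) => finrank F W) h2
      rw [finrank_act, finrank_Esub (Dset_le μ d hd), finrank_Esub (Dset_le μ d' hd')] at this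
      exact this
    rw [← h2, h3]
  · intro hst
    ext W
    rw [mem_Phi, mem_Phi]
    constructor
    · rintro ⟨d, hd, rfl⟩
      exact ⟨d, hd, by rw [act_one, hst d hd]⟩
    · rintro ⟨d, hd, rfl⟩
      exact ⟨d, hd, by rw [act_one, hst d hd]⟩

theorem Phi_eq_iff (μ : Fin n → ℕ) (hμ : ∑ k, μ k = n) (g g' : GL (Fin n) F) :
    Phi (Dset μ) g = Phi (Dset μ) g' ↔ g⁻¹ * g' ∈ Cfsg.parabolicGL n F μ := by
  classical
  rw [← Phi_eq_one_iff μ hμ]
  have h1 : Phi (Dset μ) g' = (Phi (Dset μ) (g⁻¹ * g')).image (act g) := by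
    rw [← Phi_mul, mul_inv_cancel_left]
  have h2 : Phi (Dset μ) g = (Phi (Dset μ) (1 : GL (Fin n) F)).image (act g) := by
    rw [← Phi_mul, mul_one]
  rw [h1, h2]
  constructor
  · intro h
    exact (Finset.image_injective (act_injective g) h).symm
  · intro h
    rw [h]

/-- The chain attached to a coset. -/
noncomputable def cosetChain (μ : Fin n → ℕ) (hμ : ∑ k, μ k = n) :
    GL (Fin n) F ⧸ Cfsg.parabolicGL n F μ → Finset (Submodule F (Fin n → F)) :=
  Quotient.lift (Phi (Dset μ)) (fun a b hab =>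
    (Phi_eq_iff μ hμ a b).2 (QuotientGroup.leftRel_apply.1 hab))

theorem cosetChain_mk (μ : Fin n → ℕ) (hμ : ∑ k, μ k = n) (g : GL (Fin n) F) :
    cosetChain μ hμ (g : GL (Fin n) F ⧸ Cfsg.parabolicGL n F μ) = Phi (Dset μ) g := rfl

theorem cosetChain_injective (μ : Fin n → ℕ) (hμ : ∑ k, μ k = n) :
    Function.Injective (cosetChain (F := F) μ hμ) := by
  intro c c'
  refine QuotientGroup.induction_on c fun g => ?_
  refine QuotientGroup.induction_on c' fun g' => ?_
  intro h
  rw [cosetChain_mk, cosetChain_mk] at h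
  exact QuotientGroup.eq.2 ((Phi_eq_iff μ hμ g g').1 h)

theorem cosetChain_smul (μ : Fin n → ℕ) (hμ : ∑ k, μ k = n) (x g : GL (Fin n) F) :
    cosetChain μ hμ (x • (g : GL (Fin n) F ⧸ Cfsg.parabolicGL n F μ))
      = by classical exact (Phi (Dset μ) g).image (act x) := by
  rw [MulAction.Quotient.smul_coe, smul_eq_mul, cosetChain_mk, Phi_mul]

/-- The value of the permutation character as a number of chains. -/
theorem fixedPointCharacter_parabolic (μ : Fin n → ℕ) (hμ : ∑ k, μ k = n) (x : GL (Fin n) F) :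
    Cfsg.fixedPointCharacter (Cfsg.parabolicGL n F μ) x
      = (Nat.card {C : Finset (Submodule F (Fin n → F)) //
          IsChain (· ≤ ·) (C : Set (Submodule F (Fin n → F))) ∧ dims C = Dset μ ∧
            ∀ W ∈ C, act x W ≤ W} : ℂ) := by
  classical
  unfold Cfsg.fixedPointCharacter
  congr 1
  have hprop : ∀ c : GL (Fin n) F ⧸ Cfsg.parabolicGL n F μ,
      c ∈ MulAction.fixedBy (GL (Fin n) F ⧸ Cfsg.parabolicGL n F μ) x →
      IsChain (· ≤ ·) (cosetChain μ hμ c : Set (Submodule F (Fin n → F))) ∧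
        dims (cosetChain μ hμ c) = Dset μ ∧ ∀ W ∈ cosetChain μ hμ c, act x W ≤ W := by
    intro c
    refine QuotientGroup.induction_on c fun g => ?_
    intro hfix
    rw [MulAction.mem_fixedBy] at hfix
    rw [cosetChain_mk]
    refine ⟨isChain_Phi _ g, dims_Phi (Dset_le μ) g, ?_⟩
    intro W hW
    have h1 := congrArg (cosetChain μ hμ) hfix
    rw [cosetChain_smul, cosetChain_mk] at h1
    have h2 : act x W ∈ Phi (Dset μ) g := by
      rw [← h1]
      exact mem_image_of_mem _ hW
    exact (chain_finrank_inj (isChain_Phi _ g) h2 hW (finrank_act x W)).le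
  apply Nat.card_eq_of_bijective
    (fun c : MulAction.fixedBy (GL (Fin n) F ⧸ Cfsg.parabolicGL n F μ) x =>
      (⟨cosetChain μ hμ c.1, hprop c.1 c.2⟩ : {C : Finset (Submodule F (Fin n → F)) //
          IsChain (· ≤ ·) (C : Set (Submodule F (Fin n → F))) ∧ dims C = Dset μ ∧
            ∀ W ∈ C, act x W ≤ W}))
  constructor
  · intro c c' h
    apply Subtype.ext
    exact cosetChain_injective μ hμ (congrArg Subtype.val h)
  · rintro ⟨C, hC, hdim, hst⟩
    obtain ⟨g, hg⟩ := exists_Phi_eq C hC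
    rw [hdim] at hg
    have hfix : (g : GL (Fin n) F ⧸ Cfsg.parabolicGL n F μ)
        ∈ MulAction.fixedBy (GL (Fin n) F ⧸ Cfsg.parabolicGL n F μ) x := by
      rw [MulAction.mem_fixedBy]
      apply cosetChain_injective μ hμ
      rw [cosetChain_smul, cosetChain_mk, hg]
      ext W
      rw [mem_image]
      constructor
      · rintro ⟨W', hW', rfl⟩
        rw [act_eq_of_le (hst W' hW')]
        exact hW'
      · intro hW
        exact ⟨W, hW, act_eq_of_le (hst W hW)⟩
    refine ⟨⟨_, hfix⟩, ?_⟩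
    apply Subtype.ext
    exact hg

end Cfsg.Agent.Lib.Helper5.StGL
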