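import Mathlib
import Cfsg.Agent.Lib.Helper5.StGL.Hess

/-!
The alternating sum over the permutations `κ` with `κ i ≤ i + 1` as a sum over subsets.
-/

namespace Cfsg.Agent.Lib.Helper5.StGL

open Finset Equiv Equiv.Perm

theorem Ioo_succ_eq (n : ℕ) (hn : 1 ≤ n) :
    Ioo 0 (n + 1) = insert 1 ((Ioo 0 n).image Nat.succ) := by
  ext d
  rw [mem_insert, mem_image, mem_Ioo]
  constructor
  · rintro ⟨h0, hd⟩
    by_cases h1 : d = 1
    · exact Or.inl h1
    · right
      refine ⟨d - 1, mem_Ioo.2 ⟨by omega, by omega⟩, ?_⟩
      simp only [Nat.succ_eq_add_one]; omega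
  · rintro (rfl | ⟨d', hd', rfl⟩)
    · omega
    · rw [mem_Ioo] at hd'
      simp only [Nat.succ_eq_add_one]; omega

theorem one_notMem_image (n : ℕ) : (1 : ℕ) ∉ (Ioo 0 n).image Nat.succ := by
  rw [mem_image]
  rintro ⟨d, hd, h⟩
  rw [mem_Ioo] at hd
  simp only [Nat.succ_eq_add_one] at h
  omega

theorem sum_powerset_Ioo_succ {R : Type*} [AddCommMonoid R] (n : ℕ) (hn : 1 ≤ n)
    (G : Finset ℕ → R) :
    ∑ D ∈ (Ioo 0 (n + 1)).powerset, G D
      = ∑ D ∈ (Ioo 0 n).powerset, G (D.image Nat.succ)
        + ∑ D ∈ (Ioo 0 n).powerset, G (insert 1 (D.image Nat.succ)) := by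
  rw [Ioo_succ_eq n hn, Finset.sum_powerset_insert (one_notMem_image n), powerset_image,
    Finset.sum_image (image_injOn_powerset_of_injOn (Nat.succ_injective.injOn)),
    Finset.sum_image (image_injOn_powerset_of_injOn (Nat.succ_injective.injOn))]

theorem card_le_of_mem_powerset_Ioo {n : ℕ} {D : Finset ℕ} (hD : D ∈ (Ioo 0 n).powerset) :
    D.card ≤ n - 1 := by
  rw [mem_powerset] at hD
  have := Finset.card_le_card hD
  rw [Nat.card_Ioo] at this
  omega

variable {R : Type*} [CommRing R]

theorem hess_sum : ∀ (n : ℕ) [dec : DecidablePred (Hess (n := n))] (N : Finset ℕ → R),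
    ∑ κ : Perm (Fin n), (if Hess κ then ((Equiv.Perm.sign κ : ℤ) : R) * N (Dset (muOf κ)) else 0)
      = ∑ D ∈ (Ioo 0 n).powerset, (-1 : R) ^ (n - 1 - D.card) * N D := by
  intro n
  induction n with
  | zero =>
    intro dec N
    have hD : Dset (muOf (1 : Perm (Fin 0))) = ∅ := by
      ext d
      rw [mem_Dset]
      simp
    rw [Fintype.sum_subsingleton _ (1 : Perm (Fin 0)),
      if_pos (show Hess (1 : Perm (Fin 0)) from fun i => i.elim0), hD]
    simp
  | succ n ih =>
    rcases n with _ | m
    · intro dec N
      have hD : Dset (muOf (1 : Perm (Fin 1))) = ∅ := by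
        ext d
        rw [mem_Dset]
        simp only [notMem_empty, iff_false, not_and]
        omega
      have hH : Hess (1 : Perm (Fin 1)) := by
        intro i
        simp
      have hI : Ioo 0 1 = (∅ : Finset ℕ) := by
        ext d
        rw [mem_Ioo]
        simp only [notMem_empty, iff_false]
        omega
      rw [Fintype.sum_subsingleton _ (1 : Perm (Fin 1)), if_pos hH, hD, hI]
      simp
    · intro dec N
      classical
      rw [← Equiv.sum_comp (decomposeFin (n := m + 1)).symm, Fintype.sum_prod_type, Fin.sum_univ_succ,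
        Fin.sum_univ_succ]
      have hrest : ∑ p : Fin m, ∑ e : Perm (Fin (m + 1)),
          (if Hess (decomposeFin.symm (p.succ.succ, e))
            then ((Equiv.Perm.sign (decomposeFin.symm (p.succ.succ, e)) : ℤ) : R)
              * N (Dset (muOf (decomposeFin.symm (p.succ.succ, e)))) else 0) = 0 := by
        apply Finset.sum_eq_zero
        intro p _
        apply Finset.sum_eq_zero
        intro e _
        rw [if_neg]
        intro h
        have h0 := h 0
        rw [decomposeFin_symm_apply_zero] at h0
        simp only [Fin.val_succ, Fin.val_zero] at h0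
        omega
      rw [hrest, add_zero]
      have h0 : ∀ e : Perm (Fin (m + 1)),
          (if Hess (decomposeFin.symm ((0 : Fin (m + 2)), e))
            then ((Equiv.Perm.sign (decomposeFin.symm ((0 : Fin (m + 2)), e)) : ℤ) : R)
              * N (Dset (muOf (decomposeFin.symm ((0 : Fin (m + 2)), e)))) else 0)
          = if Hess e then ((Equiv.Perm.sign e : ℤ) : R)
              * (fun D => N (insert 1 (D.image Nat.succ))) (Dset (muOf e)) else 0 := by
        intro e
        by_cases he : Hess e
        · rw [if_pos he, if_pos ((hess_zero e).2 he), Dset_zero e (by omega),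
            decomposeFin.symm_sign, if_pos rfl, one_mul]
        · rw [if_neg he, if_neg (fun h => he ((hess_zero e).1 h))]
      have h1 : ∀ e : Perm (Fin (m + 1)),
          (if Hess (decomposeFin.symm (Fin.succ (0 : Fin (m + 1)), e))
            then ((Equiv.Perm.sign (decomposeFin.symm (Fin.succ (0 : Fin (m + 1)), e)) : ℤ) : R)
              * N (Dset (muOf (decomposeFin.symm (Fin.succ (0 : Fin (m + 1)), e)))) else 0)
          = -(if Hess e then ((Equiv.Perm.sign e : ℤ) : R)
              * (fun D => N (D.image Nat.succ)) (Dset (muOf e)) else 0) := by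
        intro e
        rw [Fin.succ_zero_eq_one]
        by_cases he : Hess e
        · rw [if_pos he, if_pos ((hess_one e).2 he), Dset_one e he,
            decomposeFin.symm_sign, if_neg (by simp)]
          push_cast
          ring
        · rw [if_neg he, if_neg (fun h => he ((hess_one e).1 h)), neg_zero]
      rw [Finset.sum_congr rfl fun e _ => h0 e, Finset.sum_congr rfl fun e _ => h1 e,
        Finset.sum_neg_distrib, ih (fun D => N (insert 1 (D.image Nat.succ))),
        ih (fun D => N (D.image Nat.succ)), sum_powerset_Ioo_succ (m + 1) (by omega)]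
      rw [add_comm, ← Finset.sum_neg_distrib]
      congr 1
      · refine Finset.sum_congr rfl fun D hD => ?_
        have hc := card_le_of_mem_powerset_Ioo hD
        rw [card_image_of_injective _ Nat.succ_injective]
        have e1 : m + 1 + 1 - 1 - D.card = (m + 1 - 1 - D.card) + 1 := by omega
        rw [e1, pow_succ]
        ring
      · refine Finset.sum_congr rfl fun D hD => ?_
        have hnot : (1 : ℕ) ∉ D.image Nat.succ := by
          intro h
          exact one_notMem_image (m + 1) (image_subset_image (mem_powerset.1 hD) h)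
        rw [card_insert_of_notMem hnot, card_image_of_injective _ Nat.succ_injective]
        have e1 : m + 1 + 1 - 1 - (D.card + 1) = m + 1 - 1 - D.card := by omega
        rw [e1]

end Cfsg.Agent.Lib.Helper5.StGL
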