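import Mathlib
import Cfsg.Prelude.Def_LinearParabolics
import Cfsg.Agent.Lib.Helper5.StGL.Flag3
import Cfsg.Agent.Lib.Helper5.StGL.HessSum

/-!
The alternating-sum class function for the partition into ones, at any element, as an alternating
count of the chains of proper non-zero subspaces stabilised by the element.
-/

namespace Cfsg.Agent.Lib.Helper5.StGL

open Module Finset Matrix Equiv

variable {n : ℕ} {F : Type*} [Field F] [Fintype F]

theorem sum_muOf (κ : Perm (Fin n)) (h : Hess κ) : ∑ i, muOf κ i = n := by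
  have h1 : ∑ i, muOf κ i + ∑ i, (κ i).val = ∑ i : Fin n, (1 + i.val) := by
    rw [← Finset.sum_add_distrib]
    refine Finset.sum_congr rfl fun i _ => ?_
    unfold muOf
    exact Nat.sub_add_cancel (h i)
  have h2 : ∑ i, (κ i).val = ∑ i : Fin n, i.val := Equiv.sum_comp κ (fun i => i.val)
  rw [h2, Finset.sum_add_distrib] at h1
  simp only [sum_const, card_univ, Fintype.card_fin, smul_eq_mul, mul_one] at h1
  omega

/-- The number of the chains with given dimensions stabilised by `x`. -/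
noncomputable def Nx (x : GL (Fin n) F) (D : Finset ℕ) : ℂ :=
  (Nat.card {C : Finset (Submodule F (Fin n → F)) //
    IsChain (· ≤ ·) (C : Set (Submodule F (Fin n → F))) ∧ dims C = D ∧
      ∀ W ∈ C, act x W ≤ W} : ℂ)

theorem steinberg_eq_sum_Nx (x : GL (Fin n) F) :
    Cfsg.unipotentCharacterGL n F (fun _ => 1) x
      = ∑ D ∈ (Ioo 0 n).powerset, (-1 : ℂ) ^ (n - 1 - D.card) * Nx x D := by
  classical
  rw [← hess_sum n (fun D => Nx x D)]
  unfold Cfsg.unipotentCharacterGL
  refine Finset.sum_congr rfl fun κ _ => ?_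
  by_cases h : Hess κ
  · rw [if_pos h, if_pos (show ∀ i : Fin n, (κ i).val ≤ (fun _ => 1) i + i.val from h)]
    congr 1
    exact fixedPointCharacter_parabolic (muOf κ) (sum_muOf κ h) x
  · rw [if_neg h, if_neg (show ¬ ∀ i : Fin n, (κ i).val ≤ (fun _ => 1) i + i.val from h)]

theorem finrank_pos_of_ne_bot {W : Submodule F (Fin n → F)} (h : W ≠ ⊥) : 0 < finrank F W := by
  rw [Nat.pos_iff_ne_zero]
  intro h0
  exact h (Submodule.finrank_eq_zero.1 h0)

theorem finrank_lt_of_ne_top {W : Submodule F (Fin n → F)} (h : W ≠ ⊤) : finrank F W < n := by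
  have h1 : finrank F W ≤ n := (Submodule.finrank_le W).trans (by rw [finrank_fin_fun])
  rcases h1.lt_or_eq with h2 | h2
  · exact h2
  · exfalso
    apply h
    apply Submodule.eq_top_of_finrank_eq
    rw [h2, finrank_fin_fun]

theorem ne_bot_of_finrank_pos {W : Submodule F (Fin n → F)} (h : 0 < finrank F W) : W ≠ ⊥ := by
  rintro rfl
  rw [finrank_bot] at h
  exact lt_irrefl _ h

theorem ne_top_of_finrank_lt {W : Submodule F (Fin n → F)} (h : finrank F W < n) : W ≠ ⊤ := by
  rintro rfl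
  rw [finrank_top, finrank_fin_fun] at h
  exact lt_irrefl _ h

theorem sum_Nx_eq_sum_chains (x : GL (Fin n) F) (T : Finset (Finset (Submodule F (Fin n → F))))
    (hT : ∀ C, C ∈ T ↔ IsChain (· ≤ ·) (C : Set (Submodule F (Fin n → F))) ∧
      ∀ W ∈ C, act x W ≤ W ∧ W ≠ ⊥ ∧ W ≠ ⊤) :
    ∑ D ∈ (Ioo 0 n).powerset, (-1 : ℂ) ^ (n - 1 - D.card) * Nx x D
      = ∑ C ∈ T, (-1 : ℂ) ^ (n - 1 - C.card) := by
  classical
  have hmaps : ∀ C ∈ T, dims C ∈ (Ioo 0 n).powerset := by
    intro C hC
    rw [hT] at hC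
    rw [mem_powerset]
    intro d hd
    rw [mem_dims] at hd
    obtain ⟨W, hW, rfl⟩ := hd
    rw [mem_Ioo]
    exact ⟨finrank_pos_of_ne_bot (hC.2 W hW).2.1, finrank_lt_of_ne_top (hC.2 W hW).2.2⟩
  rw [← Finset.sum_fiberwise_of_maps_to hmaps]
  refine Finset.sum_congr rfl fun D hD => ?_
  rw [mem_powerset] at hD
  have hcard : Nx x D = ((T.filter (fun C => dims C = D)).card : ℂ) := by
    unfold Nx
    congr 1
    apply Nat.subtype_card
    intro C
    rw [mem_filter, hT]
    constructor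
    · rintro ⟨⟨h1, h2⟩, h3⟩
      exact ⟨h1, h3, fun W hW => (h2 W hW).1⟩
    · rintro ⟨h1, h3, h2⟩
      refine ⟨⟨h1, fun W hW => ⟨h2 W hW, ?_, ?_⟩⟩, h3⟩
      · have : finrank F W ∈ D := by
          rw [← h3]
          exact mem_dims.2 ⟨W, hW, rfl⟩
        exact ne_bot_of_finrank_pos (mem_Ioo.1 (hD this)).1
      · have : finrank F W ∈ D := by
          rw [← h3]
          exact mem_dims.2 ⟨W, hW, rfl⟩
        exact ne_top_of_finrank_lt (mem_Ioo.1 (hD this)).2
  rw [hcard]
  have hterm : ∀ C ∈ T.filter (fun C => dims C = D),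
      (-1 : ℂ) ^ (n - 1 - C.card) = (-1 : ℂ) ^ (n - 1 - D.card) := by
    intro C hC
    rw [mem_filter, hT] at hC
    rw [← hC.2, card_dims hC.1.1]
  rw [Finset.sum_congr rfl hterm, Finset.sum_const, nsmul_eq_mul, mul_comm]

end Cfsg.Agent.Lib.Helper5.StGL
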