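import Mathlib

/-!
Moebius functions of finite lattices: the alternating count of chains, the complement recursion
for an atom, and invariance under embeddings onto lower sets.
-/

namespace Cfsg.Agent.Lib.Helper5.StGL

open Finset IncidenceAlgebra

section Hall
variable {𝕜 : Type*} [Ring 𝕜] {α : Type*} [Lattice α] [OrderBot α] [LocallyFiniteOrder α]
  [DecidableEq α]

open Classical in
/-- The chains inside the open interval. -/
noncomputable def chainsIoo (a b : α) : Finset (Finset α) :=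
  (Ioo a b).powerset.filter (fun C => IsChain (· ≤ ·) (C : Set α))

theorem mem_chainsIoo {a b : α} {C : Finset α} :
    C ∈ chainsIoo a b ↔ (∀ w ∈ C, a < w ∧ w < b) ∧ IsChain (· ≤ ·) (C : Set α) := by
  classical
  unfold chainsIoo
  rw [mem_filter, mem_powerset]
  constructor
  · rintro ⟨h1, h2⟩
    exact ⟨fun w hw => mem_Ioo.1 (h1 hw), h2⟩
  · rintro ⟨h1, h2⟩
    exact ⟨fun w hw => mem_Ioo.2 (h1 w hw), h2⟩

/-- The alternating count of the chains of the open interval. -/
noncomputable def chainSum (𝕜 : Type*) [Ring 𝕜] (a b : α) : 𝕜 :=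
  ∑ C ∈ chainsIoo a b, (-1 : 𝕜) ^ (C.card + 1)

theorem chain_sup_mem {C : Finset α} (hC : IsChain (· ≤ ·) (C : Set α)) (hne : C.Nonempty) :
    C.sup id ∈ C := by
  rw [← Finset.sup'_eq_sup hne]
  refine Finset.sup'_mem (C : Set α) ?_ C hne id (fun i hi => hi)
  intro x hx y hy
  rcases hC.total hx hy with h | h
  · rw [sup_of_le_right h]; exact hy
  · rw [sup_of_le_left h]; exact hx

theorem chain_le_sup {C : Finset α} {y : α} (hy : y ∈ C) : y ≤ C.sup id :=
  Finset.le_sup (f := id) hy

theorem chainSum_step (a b : α) (hab : a < b) :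
    chainSum 𝕜 a b = -1 - ∑ x ∈ Ioo a b, chainSum 𝕜 a x := by
  classical
  unfold chainSum
  have hempty : (∅ : Finset α) ∈ chainsIoo a b := by
    rw [mem_chainsIoo]
    refine ⟨fun w hw => absurd hw (notMem_empty _), ?_⟩
    simp
  rw [← Finset.add_sum_erase _ _ hempty]
  simp only [card_empty, zero_add, pow_one]
  rw [sub_eq_add_neg]
  congr 1
  have hneg : -∑ x ∈ Ioo a b, ∑ C ∈ chainsIoo a x, (-1 : 𝕜) ^ (C.card + 1)
      = ∑ x ∈ Ioo a b, ∑ C ∈ chainsIoo a x, -(-1 : 𝕜) ^ (C.card + 1) := by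
    rw [← Finset.sum_neg_distrib]
    exact Finset.sum_congr rfl fun x _ => (Finset.sum_neg_distrib _).symm
  rw [hneg, Finset.sum_sigma']
  symm
  refine Finset.sum_bij' (fun (p : Σ _ : α, Finset α) _ => insert p.1 p.2)
    (fun C _ => ⟨C.sup id, C.erase (C.sup id)⟩) ?_ ?_ ?_ ?_ ?_
  · rintro ⟨x, C⟩ h
    rw [mem_sigma] at h
    obtain ⟨hx, hC⟩ := h
    rw [mem_Ioo] at hx
    rw [mem_chainsIoo] at hC
    rw [mem_erase]
    refine ⟨(insert_nonempty _ _).ne_empty, ?_⟩
    rw [mem_chainsIoo]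
    refine ⟨?_, ?_⟩
    · intro w hw
      rw [mem_insert] at hw
      rcases hw with rfl | hw
      · exact hx
      · exact ⟨(hC.1 w hw).1, (hC.1 w hw).2.trans hx.2⟩
    · rw [coe_insert]
      refine hC.2.insert ?_
      intro y hy _
      right
      exact (hC.1 y hy).2.le
  · intro C h
    rw [mem_erase] at h
    obtain ⟨hne, hC⟩ := h
    rw [mem_chainsIoo] at hC
    have hne' : C.Nonempty := nonempty_iff_ne_empty.2 hne
    have hs := chain_sup_mem hC.2 hne'
    rw [mem_sigma]
    refine ⟨mem_Ioo.2 (hC.1 _ hs), ?_⟩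
    rw [mem_chainsIoo]
    refine ⟨?_, ?_⟩
    · intro w hw
      rw [mem_erase] at hw
      exact ⟨(hC.1 w hw.2).1, lt_of_le_of_ne (chain_le_sup hw.2) hw.1⟩
    · refine hC.2.mono ?_
      rw [coe_erase]
      exact Set.diff_subset
  · rintro ⟨x, C⟩ h
    rw [mem_sigma] at h
    obtain ⟨hx, hC⟩ := h
    rw [mem_chainsIoo] at hC
    have hxC : x ∉ C := fun hxC => lt_irrefl _ (hC.1 x hxC).2
    have hsup : (insert x C).sup id = x := by
      rw [Finset.sup_insert]
      simp only [id_eq]
      rw [sup_eq_left]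
      apply Finset.sup_le
      intro y hy
      exact (hC.1 y hy).2.le
    simp only [hsup]
    rw [erase_insert hxC]
  · intro C h
    rw [mem_erase] at h
    obtain ⟨hne, hC⟩ := h
    rw [mem_chainsIoo] at hC
    have hne' : C.Nonempty := nonempty_iff_ne_empty.2 hne
    exact insert_erase (chain_sup_mem hC.2 hne')
  · rintro ⟨x, C⟩ h
    rw [mem_sigma] at h
    obtain ⟨hx, hC⟩ := h
    rw [mem_chainsIoo] at hC
    have hxC : x ∉ C := fun hxC => lt_irrefl _ (hC.1 x hxC).2
    simp only
    rw [card_insert_of_notMem hxC, pow_succ (-1 : 𝕜) (C.card + 1)]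
    simp

/-- The Moebius function of an interval as an alternating count of chains. -/
theorem mu_eq_chainSum (a : α) : ∀ (n : ℕ) (b : α), a < b → (Ioo a b).card = n →
    mu 𝕜 a b = chainSum 𝕜 a b := by
  intro n
  induction n using Nat.strong_induction_on with
  | _ n ih =>
    intro b hab hn
    rw [mu_eq_neg_sum_Ico_of_ne hab.ne, chainSum_step a b hab, ← Finset.Ioo_insert_left hab,
      Finset.sum_insert (by simp), mu_self]
    have : ∑ x ∈ Ioo a b, mu 𝕜 a x = ∑ x ∈ Ioo a b, chainSum 𝕜 a x := by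
      refine Finset.sum_congr rfl fun x hx => ?_
      rw [mem_Ioo] at hx
      refine ih (Ioo a x).card ?_ x hx.1 rfl
      rw [← hn]
      apply Finset.card_lt_card
      rw [Finset.ssubset_iff_of_subset (Ioo_subset_Ioo_right hx.2.le)]
      exact ⟨x, mem_Ioo.2 hx, by simp⟩
    rw [this]
    abel

end Hall

section Weisner
variable {𝕜 : Type*} [Ring 𝕜] {α : Type*} [Lattice α] [OrderBot α] [LocallyFiniteOrder α]
  [DecidableEq α]

/-- The complement recursion: the values of the Moebius function from the bottom, over the elements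
joining a given non-bottom element to `b`, add up to zero. -/
theorem weisner (a b : α) (ha : a ≠ ⊥) (hab : a ≤ b) :
    ∑ w ∈ (Icc ⊥ b).filter (fun w => w ⊔ a = b), mu 𝕜 ⊥ w = 0 := by
  classical
  rw [Finset.sum_filter]
  have h1 : ∀ w ∈ Icc ⊥ b, (if w ⊔ a = b then mu 𝕜 ⊥ w else 0)
      = ∑ y ∈ Icc a b, if w ≤ y then mu 𝕜 ⊥ w * mu 𝕜 y b else 0 := by
    intro w hw
    rw [mem_Icc] at hw
    rw [← Finset.sum_filter]
    have : (Icc a b).filter (fun y => w ≤ y) = Icc (w ⊔ a) b := by
      ext y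
      rw [mem_filter, mem_Icc, mem_Icc, sup_le_iff]
      tauto
    rw [this, ← Finset.mul_sum, sum_Icc_mu_left]
    split_ifs <;> simp
  rw [Finset.sum_congr rfl h1, Finset.sum_comm]
  apply Finset.sum_eq_zero
  intro y hy
  rw [mem_Icc] at hy
  rw [← Finset.sum_filter]
  have : (Icc ⊥ b).filter (fun w => w ≤ y) = Icc ⊥ y := by
    ext w
    rw [mem_filter, mem_Icc, mem_Icc]
    constructor
    · rintro ⟨⟨h1, _⟩, h3⟩
      exact ⟨h1, h3⟩
    · rintro ⟨h1, h3⟩
      exact ⟨⟨h1, h3.trans hy.2⟩, h3⟩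
  rw [this, ← Finset.sum_mul, sum_Icc_mu_right]
  have hy0 : (⊥ : α) ≠ y := by
    rintro rfl
    exact ha (le_bot_iff.1 hy.1)
  rw [if_neg hy0, zero_mul]

end Weisner

section Transport
variable {𝕜 : Type*} [Ring 𝕜] {α β : Type*} [PartialOrder α] [LocallyFiniteOrder α]
  [DecidableEq α] [PartialOrder β] [LocallyFiniteOrder β] [DecidableEq β]

/-- The Moebius function is unchanged by an order embedding whose range is a lower set. -/
theorem mu_map_of_lower (e : α ↪o β) (he : ∀ (x : α) (y : β), y ≤ e x → ∃ x', e x' = y) (a : α) :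
    ∀ (n : ℕ) (b : α), (Ico a b).card = n → mu 𝕜 (e a) (e b) = mu 𝕜 a b := by
  intro n
  induction n using Nat.strong_induction_on with
  | _ n ih =>
    intro b hn
    rw [mu_apply, mu_apply a b]
    by_cases hab : a = b
    · rw [if_pos hab, if_pos (by rw [hab])]
    · rw [if_neg hab, if_neg (fun h => hab (e.injective h))]
      congr 1
      have himg : Ico (e a) (e b) = (Ico a b).map e.toEmbedding := by
        ext y
        rw [mem_Ico, mem_map]
        constructor
        · rintro ⟨h1, h2⟩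
          obtain ⟨x', rfl⟩ := he b y h2.le
          refine ⟨x', mem_Ico.2 ⟨e.le_iff_le.1 h1, e.lt_iff_lt.1 h2⟩, rfl⟩
        · rintro ⟨x', hx', rfl⟩
          rw [mem_Ico] at hx'
          exact ⟨e.le_iff_le.2 hx'.1, e.lt_iff_lt.2 hx'.2⟩
      rw [himg, Finset.sum_map]
      refine Finset.sum_congr rfl fun x hx => ?_
      rw [mem_Ico] at hx
      refine ih (Ico a x).card ?_ x rfl
      rw [← hn]
      apply Finset.card_lt_card
      rw [Finset.ssubset_iff_of_subset (Ico_subset_Ico_right hx.2.le)]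
      exact ⟨x, mem_Ico.2 hx, by simp⟩

end Transport

end Cfsg.Agent.Lib.Helper5.StGL
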