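import Mathlib
import Cfsg.Prelude.Def_LinearParabolics
import Cfsg.Agent.Lib.Helper5.StGL.Chain1
import Cfsg.Agent.Lib.Helper5.StGL.Hall

/-!
The alternating-sum class function for the partition into ones as a Moebius function of the lattice
of invariant subspaces.
-/

namespace Cfsg.Agent.Lib.Helper5.StGL

open Module Finset Matrix Polynomial IncidenceAlgebra

section transport
variable {𝕜 : Type*} [Ring 𝕜] {α β : Type*} [Lattice α] [OrderBot α] [LocallyFiniteOrder α]
  [DecidableEq α] [PartialOrder β] [DecidableEq β]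

theorem sum_chains_transport (ι : α ↪o β) (a b : α) (T : Finset (Finset β))
    (hT : ∀ C', C' ∈ T ↔ IsChain (· ≤ ·) (C' : Set β) ∧
      ∀ w' ∈ C', w' ∈ Set.range ι ∧ ι a < w' ∧ w' < ι b) (h : ℕ → 𝕜) :
    ∑ C ∈ chainsIoo a b, h C.card = ∑ C' ∈ T, h C'.card := by
  classical
  refine Finset.sum_bij (fun C _ => C.image ι) ?_ ?_ ?_ ?_
  · intro C hC
    rw [mem_chainsIoo] at hC
    rw [hT]
    refine ⟨?_, ?_⟩
    · intro w hw w' hw' _
      rw [mem_coe, mem_image] at hw hw'
      obtain ⟨v, hv, rfl⟩ := hw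
      obtain ⟨v', hv', rfl⟩ := hw'
      rcases hC.2.total hv hv' with h1 | h1
      · exact Or.inl (ι.le_iff_le.2 h1)
      · exact Or.inr (ι.le_iff_le.2 h1)
    · intro w hw
      rw [mem_image] at hw
      obtain ⟨v, hv, rfl⟩ := hw
      exact ⟨⟨v, rfl⟩, ι.lt_iff_lt.2 (hC.1 v hv).1, ι.lt_iff_lt.2 (hC.1 v hv).2⟩
  · intro C _ C₂ _ heq
    exact Finset.image_injective ι.injective heq
  · intro C' hC'
    rw [hT] at hC'
    have himg : (C'.preimage ι ι.injective.injOn).image ι = C' := by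
      rw [Finset.image_preimage]
      apply Finset.filter_true_of_mem
      intro w hw
      exact (hC'.2 w hw).1
    refine ⟨C'.preimage ι ι.injective.injOn, ?_, himg⟩
    rw [mem_chainsIoo]
    refine ⟨?_, ?_⟩
    · intro w hw
      rw [mem_preimage] at hw
      exact ⟨ι.lt_iff_lt.1 (hC'.2 _ hw).2.1, ι.lt_iff_lt.1 (hC'.2 _ hw).2.2⟩
    · intro w hw w' hw' _
      rw [mem_coe, mem_preimage] at hw hw'
      rcases hC'.1.total hw hw' with h1 | h1
      · exact Or.inl (ι.le_iff_le.1 h1)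
      · exact Or.inr (ι.le_iff_le.1 h1)
  · intro C _
    rw [Finset.card_image_of_injective _ ι.injective]

end transport

section steinberg
variable {n : ℕ} {F : Type*} [Field F] [Fintype F]

/-- The invariant subspace attached to a submodule over the polynomial ring. -/
noncomputable def iotaSub (a : Module.End F (Fin n → F)) :
    Submodule F[X] (Module.AEval' a) ↪o Submodule F (Fin n → F) :=
  (Module.AEval.mapSubmodule F (Fin n → F) a).symm.toOrderEmbedding.trans (OrderEmbedding.subtype _)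

theorem iotaSub_bot (a : Module.End F (Fin n → F)) : iotaSub a ⊥ = ⊥ := by
  unfold iotaSub
  change (((Module.AEval.mapSubmodule F (Fin n → F) a).symm ⊥ :
    (Algebra.lsmul F F (Fin n → F) a).invtSubmodule) : Submodule F (Fin n → F)) = ⊥
  rw [OrderIso.map_bot]
  rfl

theorem iotaSub_top (a : Module.End F (Fin n → F)) : iotaSub a ⊤ = ⊤ := by
  unfold iotaSub
  change (((Module.AEval.mapSubmodule F (Fin n → F) a).symm ⊤ :
    (Algebra.lsmul F F (Fin n → F) a).invtSubmodule) : Submodule F (Fin n → F)) = ⊤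
  rw [OrderIso.map_top]
  rfl

theorem mem_range_iotaSub (a : Module.End F (Fin n → F)) (W : Submodule F (Fin n → F)) :
    W ∈ Set.range (iotaSub a) ↔ W.map a ≤ W := by
  rw [← Module.End.mem_invtSubmodule_iff_map_le]
  constructor
  · rintro ⟨q, rfl⟩
    exact ((Module.AEval.mapSubmodule F (Fin n → F) a).symm q).2
  · intro hW
    refine ⟨Module.AEval.mapSubmodule F (Fin n → F) a ⟨W, hW⟩, ?_⟩
    unfold iotaSub
    change (((Module.AEval.mapSubmodule F (Fin n → F) a).symm
      (Module.AEval.mapSubmodule F (Fin n → F) a ⟨W, hW⟩) :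
        (Algebra.lsmul F F (Fin n → F) a).invtSubmodule) : Submodule F (Fin n → F)) = W
    rw [OrderIso.symm_apply_apply]

/-- The endomorphism attached to an invertible matrix. -/
abbrev aOf (x : GL (Fin n) F) : Module.End F (Fin n → F) :=
  Matrix.mulVecLin (x : Matrix (Fin n) (Fin n) F)

/-- The class function for the partition into ones as a Moebius function. -/
theorem steinberg_eq_mu (hn : 0 < n) (x : GL (Fin n) F)
    [LocallyFiniteOrder (Submodule F[X] (Module.AEval' (aOf x)))]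
    [DecidableEq (Submodule F[X] (Module.AEval' (aOf x)))] :
    Cfsg.unipotentCharacterGL n F (fun _ => 1) x
      = (-1 : ℂ) ^ n * mu ℂ (⊥ : Submodule F[X] (Module.AEval' (aOf x))) ⊤ := by
  classical
  letI : Fintype (Submodule F (Fin n → F)) := Fintype.ofFinite _
  let T : Finset (Finset (Submodule F (Fin n → F))) :=
    Finset.univ.filter (fun C => IsChain (· ≤ ·) (C : Set (Submodule F (Fin n → F))) ∧
      ∀ W ∈ C, act x W ≤ W ∧ W ≠ ⊥ ∧ W ≠ ⊤)
  have hT : ∀ C, C ∈ T ↔ IsChain (· ≤ ·) (C : Set (Submodule F (Fin n → F))) ∧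
      ∀ W ∈ C, act x W ≤ W ∧ W ≠ ⊥ ∧ W ≠ ⊤ := by
    intro C
    simp only [T, mem_filter, mem_univ, true_and]
  rw [steinberg_eq_sum_Nx, sum_Nx_eq_sum_chains x T hT]
  -- the sign
  have hsign : ∀ C ∈ T, (-1 : ℂ) ^ (n - 1 - C.card) = (-1 : ℂ) ^ n * (-1 : ℂ) ^ (C.card + 1) := by
    intro C hC
    rw [hT] at hC
    have hle : C.card ≤ n - 1 := by
      rw [← card_dims hC.1]
      have hsub : dims C ⊆ Ioo 0 n := by
        intro d hd
        rw [mem_dims] at hd
        obtain ⟨W, hW, rfl⟩ := hd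
        rw [mem_Ioo]
        exact ⟨finrank_pos_of_ne_bot (hC.2 W hW).2.1, finrank_lt_of_ne_top (hC.2 W hW).2.2⟩
      have := Finset.card_le_card hsub
      rw [Nat.card_Ioo] at this
      omega
    rw [← pow_add]
    have e : n + (C.card + 1) = (n - 1 - C.card) + 2 * (C.card + 1) := by omega
    rw [e, pow_add, pow_mul]
    norm_num
  rw [Finset.sum_congr rfl hsign, ← Finset.mul_sum]
  congr 1
  -- the chains
  have hT' : ∀ C', C' ∈ T ↔ IsChain (· ≤ ·) (C' : Set (Submodule F (Fin n → F))) ∧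
      ∀ w' ∈ C', w' ∈ Set.range (iotaSub (aOf x)) ∧ iotaSub (aOf x) ⊥ < w' ∧
        w' < iotaSub (aOf x) ⊤ := by
    intro C'
    rw [hT, iotaSub_bot, iotaSub_top]
    refine and_congr Iff.rfl (forall_congr' fun W => forall_congr' fun _ => ?_)
    rw [mem_range_iotaSub, bot_lt_iff_ne_bot, lt_top_iff_ne_top]
    rfl
  have htr := sum_chains_transport (𝕜 := ℂ) (iotaSub (aOf x)) ⊥ ⊤ T hT'
    (fun k => (-1 : ℂ) ^ (k + 1))
  rw [← htr]
  have hlt : (⊥ : Submodule F[X] (Module.AEval' (aOf x))) < ⊤ := by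
    rw [← (iotaSub (aOf x)).lt_iff_lt, iotaSub_bot, iotaSub_top, bot_lt_iff_ne_bot]
    haveI : Nonempty (Fin n) := ⟨⟨0, hn⟩⟩
    exact top_ne_bot
  exact (mu_eq_chainSum (𝕜 := ℂ) ⊥ _ ⊤ hlt rfl).symm

end steinberg

end Cfsg.Agent.Lib.Helper5.StGL
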