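import Mathlib

/-!
Modules over a polynomial ring that are finite dimensional over the field: the characteristic
polynomial of multiplication by the variable, and the simple ones.
-/

namespace Cfsg.Agent.Lib.Helper5.StGL

open Polynomial Module

section cp
variable {F : Type*} [Field F]
variable (M : Type*) [AddCommGroup M] [Module F M] [Module F[X] M] [IsScalarTower F F[X] M]

/-- Multiplication by the variable, as a linear endomorphism over the field. -/
noncomputable def Xmul : Module.End F M := Algebra.lsmul F F M (X : F[X])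

theorem Xmul_apply (m : M) : Xmul (F := F) M m = (X : F[X]) • m := rfl

theorem aeval_Xmul (p : F[X]) : aeval (Xmul (F := F) M) p = Algebra.lsmul F F M p := by
  unfold Xmul
  rw [aeval_algHom_apply, aeval_X_left_apply]

variable [Module.Finite F M]

instance finite_sub (w : Submodule F[X] M) : Module.Finite F w :=
  Module.Finite.of_injective ((w.subtype).restrictScalars F) (Submodule.injective_subtype w)

/-- The characteristic polynomial of multiplication by the variable. -/
noncomputable def cp : F[X] := (Xmul (F := F) M).charpoly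

theorem cp_monic : (cp (F := F) M).Monic := LinearMap.charpoly_monic _

theorem cp_ne_zero : cp (F := F) M ≠ 0 := (cp_monic M).ne_zero

theorem cp_natDegree : (cp (F := F) M).natDegree = finrank F M := LinearMap.charpoly_natDegree _

theorem cp_smul (m : M) : cp (F := F) M • m = 0 := by
  have h := LinearMap.aeval_self_charpoly (Xmul (F := F) M)
  rw [aeval_Xmul] at h
  have h2 := LinearMap.congr_fun h m
  exact h2

theorem cp_subsingleton [Subsingleton M] : cp (F := F) M = 1 := by
  have h : (cp (F := F) M).natDegree = 0 := by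
    rw [cp_natDegree, finrank_zero_of_subsingleton]
  exact eq_one_of_monic_natDegree_zero (cp_monic M) h

variable {M}
variable {N : Type*} [AddCommGroup N] [Module F N] [Module F[X] N] [IsScalarTower F F[X] N]
  [Module.Finite F N]

theorem cp_congr (e : M ≃ₗ[F[X]] N) : cp (F := F) M = cp (F := F) N := by
  unfold cp
  rw [← LinearEquiv.charpoly_conj (e.restrictScalars F) (Xmul (F := F) M)]
  congr 1
  apply LinearMap.ext
  intro n
  rw [LinearEquiv.conj_apply_apply, Xmul_apply, Xmul_apply]
  change e ((X : F[X]) • e.symm n) = _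
  rw [map_smul, LinearEquiv.apply_symm_apply]

theorem cp_prod : cp (F := F) (M × N) = cp (F := F) M * cp (F := F) N := by
  unfold cp
  rw [← LinearMap.charpoly_prodMap]
  congr 1

theorem cp_of_isCompl (w l : Submodule F[X] M) (h : IsCompl w l) :
    cp (F := F) M = cp (F := F) w * cp (F := F) l := by
  rw [← cp_congr (Submodule.prodEquivOfIsCompl w l h), cp_prod]

end cp

section simple
variable {F : Type*} [Field F]
variable (M : Type*) [AddCommGroup M] [Module F M] [Module F[X] M] [IsScalarTower F F[X] M]
  [Module.Finite F M]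

/-- A simple module is the quotient of the polynomial ring by its own invariant, which is
irreducible. -/
theorem simple_structure [IsSimpleModule F[X] M] :
    Irreducible (cp (F := F) M) ∧ Nonempty (M ≃ₗ[F[X]] F[X] ⧸ Ideal.span {cp (F := F) M}) := by
  obtain ⟨I, hI, ⟨e⟩⟩ := isSimpleModule_iff_quot_maximal.mp ‹IsSimpleModule F[X] M›
  have hmem : cp (F := F) M ∈ I := by
    have h1 : cp (F := F) M • e.symm (Ideal.Quotient.mk I 1) = 0 := cp_smul M _
    have h2 := congrArg e h1
    rw [map_smul, LinearEquiv.apply_symm_apply, map_zero] at h2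
    have h3 : cp (F := F) M • (Ideal.Quotient.mk I 1) = Ideal.Quotient.mk I (cp (F := F) M) := by
      have := (Submodule.Quotient.mk_smul I (cp (F := F) M) (1 : F[X])).symm
      simpa using this
    rw [h3] at h2
    exact Ideal.Quotient.eq_zero_iff_mem.1 h2
  obtain ⟨g, hg⟩ : ∃ g, I = Ideal.span {g} := ⟨_, (Ideal.span_singleton_generator I).symm⟩
  have hg0 : g ≠ 0 := by
    rintro rfl
    rw [hg, Ideal.span_singleton_eq_bot.2 rfl, Ideal.mem_bot] at hmem
    exact cp_ne_zero M hmem
  obtain ⟨g', hg'⟩ : ∃ g', g' = g * C g.leadingCoeff⁻¹ := ⟨_, rfl⟩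
  have hass : Associated g g' := by
    rw [hg']
    refine ⟨⟨C g.leadingCoeff⁻¹, C g.leadingCoeff, ?_, ?_⟩, rfl⟩
    · rw [← C_mul, inv_mul_cancel₀ (leadingCoeff_ne_zero.2 hg0), C_1]
    · rw [← C_mul, mul_inv_cancel₀ (leadingCoeff_ne_zero.2 hg0), C_1]
  have hI' : I = Ideal.span {g'} := by
    rw [hg]
    exact Ideal.span_singleton_eq_span_singleton.2 hass
  have hmon : g'.Monic := by
    rw [hg']
    exact Polynomial.monic_mul_leadingCoeff_inv hg0
  have hdvd : g' ∣ cp (F := F) M := by
    rw [hI'] at hmem
    exact Ideal.mem_span_singleton.1 hmem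
  have hdeg : (cp (F := F) M).natDegree = g'.natDegree := by
    rw [cp_natDegree, LinearEquiv.finrank_eq (e.restrictScalars F)]
    subst hI'
    exact finrank_quotient_span_eq_natDegree
  have heq : cp (F := F) M = g' :=
    eq_of_monic_of_dvd_of_natDegree_le hmon (cp_monic M) hdvd hdeg.le
  rw [← heq] at hI'
  subst hI'
  refine ⟨?_, ⟨e⟩⟩
  have hp : (Ideal.span {cp (F := F) M}).IsPrime := hI.isPrime
  rw [Ideal.span_singleton_prime (cp_ne_zero M)] at hp
  exact hp.irreducible

variable {M}
variable {N : Type*} [AddCommGroup N] [Module F N] [Module F[X] N] [IsScalarTower F F[X] N]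
  [Module.Finite F N]

theorem simple_iso_of_cp_eq [IsSimpleModule F[X] M] [IsSimpleModule F[X] N]
    (h : cp (F := F) M = cp (F := F) N) : Nonempty (M ≃ₗ[F[X]] N) := by
  obtain ⟨e1⟩ := (simple_structure (F := F) M).2
  obtain ⟨e2⟩ := (simple_structure (F := F) N).2
  rw [h] at e1
  exact ⟨e1.trans e2.symm⟩

end simple

section homs
variable {R : Type*} [CommRing R]
variable {M : Type*} [AddCommGroup M] [Module R M]
variable {N : Type*} [AddCommGroup N] [Module R N]

/-- Over a commutative ring a simple module has as many endomorphisms as elements. -/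
theorem card_end_simple [IsSimpleModule R M] : Nat.card (M →ₗ[R] M) = Nat.card M := by
  haveI := IsSimpleModule.nontrivial R M
  obtain ⟨v, hv⟩ := exists_ne (0 : M)
  refine Nat.card_congr (Equiv.ofBijective (fun φ : M →ₗ[R] M => φ v) ⟨?_, ?_⟩)
  · intro φ ψ h
    simp only at h
    have h0 : (φ - ψ) v = 0 := by rw [LinearMap.sub_apply, h, sub_self]
    rcases LinearMap.bijective_or_eq_zero (φ - ψ) with hb | hz
    · exact absurd (hb.1 (h0.trans (map_zero _).symm)) hv
    · exact sub_eq_zero.1 hz
  · intro u
    obtain ⟨r, hr⟩ := IsSimpleModule.toSpanSingleton_surjective R hv u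
    refine ⟨r • LinearMap.id, ?_⟩
    simp only [LinearMap.smul_apply, LinearMap.id_apply]
    simpa using hr

theorem card_hom_simple_of_iso [IsSimpleModule R N] (e : M ≃ₗ[R] N) :
    Nat.card (M →ₗ[R] N) = Nat.card N := by
  rw [← card_end_simple (R := R) (M := N)]
  exact Nat.card_congr (LinearEquiv.arrowCongr e (LinearEquiv.refl R N)).toEquiv

theorem card_hom_simple_of_not_iso [IsSimpleModule R M] [IsSimpleModule R N]
    (h : ¬ Nonempty (M ≃ₗ[R] N)) : Nat.card (M →ₗ[R] N) = 1 := by
  rw [Nat.card_eq_one_iff_unique]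
  refine ⟨⟨fun φ ψ => ?_⟩, ⟨0⟩⟩
  have h0 : ∀ φ : M →ₗ[R] N, φ = 0 := by
    intro φ
    rcases LinearMap.bijective_or_eq_zero φ with hb | hz
    · exact absurd ⟨LinearEquiv.ofBijective φ hb⟩ h
    · exact hz
  rw [h0 φ, h0 ψ]

end homs

end Cfsg.Agent.Lib.Helper5.StGL
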