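import Mathlib
import Cfsg.Agent.Lib.Helper5.StGL.Simple

/-!
Counting the module homomorphisms from a finite semisimple module over a polynomial ring to a simple
one, and the complements of a simple submodule.
-/

namespace Cfsg.Agent.Lib.Helper5.StGL

open Polynomial Module UniqueFactorizationMonoid

universe u v

variable {F : Type v} [Field F] [Finite F] [DecidableEq F]

theorem nf_cp_simple (L : Type*) [AddCommGroup L] [Module F L] [Module F[X] L]
    [IsScalarTower F F[X] L] [Finite L] [IsSimpleModule F[X] L] :
    normalizedFactors (cp (F := F) L) = {cp (F := F) L} := by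
  rw [normalizedFactors_irreducible (simple_structure (F := F) L).1,
    Polynomial.Monic.normalize_eq_self (cp_monic L)]

theorem nf_cp_isCompl {M : Type*} [AddCommGroup M] [Module F M] [Module F[X] M]
    [IsScalarTower F F[X] M] [Finite M] (l w : Submodule F[X] M) (h : IsCompl l w)
    [IsSimpleModule F[X] l] :
    normalizedFactors (cp (F := F) M) = {cp (F := F) l} + normalizedFactors (cp (F := F) w) := by
  rw [cp_of_isCompl l w h, normalizedFactors_mul (cp_ne_zero _) (cp_ne_zero _), nf_cp_simple]

theorem card_hom_simple (L N : Type*) [AddCommGroup L] [Module F L] [Module F[X] L]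
    [IsScalarTower F F[X] L] [Finite L] [IsSimpleModule F[X] L]
    [AddCommGroup N] [Module F N] [Module F[X] N]
    [IsScalarTower F F[X] N] [Finite N] [IsSimpleModule F[X] N] :
    Nat.card (L →ₗ[F[X]] N) = if cp (F := F) L = cp (F := F) N then Nat.card N else 1 := by
  split_ifs with h
  · obtain ⟨e⟩ := simple_iso_of_cp_eq h
    exact card_hom_simple_of_iso e
  · apply card_hom_simple_of_not_iso
    rintro ⟨e⟩
    exact h (cp_congr e)

/-- The number of homomorphisms from a finite semisimple module to a simple one. -/
theorem card_hom (N : Type*) [AddCommGroup N] [Module F N] [Module F[X] N]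
    [IsScalarTower F F[X] N] [Finite N] [IsSimpleModule F[X] N] :
    ∀ (n : ℕ) (M : Type u) [AddCommGroup M] [Module F M] [Module F[X] M] [IsScalarTower F F[X] M]
      [Finite M] [IsSemisimpleModule F[X] M], Nat.card M = n →
      Nat.card (M →ₗ[F[X]] N)
        = Nat.card N ^ (normalizedFactors (cp (F := F) M)).count (cp (F := F) N) := by
  intro n
  induction n using Nat.strong_induction_on with
  | _ n ih =>
    intro M _ _ _ _ _ _ hn
    by_cases hsub : Subsingleton M
    · rw [cp_subsingleton M, normalizedFactors_one, Multiset.count_zero, pow_zero]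
      rw [Nat.card_eq_one_iff_unique]
      refine ⟨⟨fun φ ψ => LinearMap.ext fun m => ?_⟩, ⟨0⟩⟩
      rw [Subsingleton.elim m 0, map_zero, map_zero]
    · rw [not_subsingleton_iff_nontrivial] at hsub
      obtain ⟨l, hl, -⟩ := (eq_bot_or_exists_atom_le (⊤ : Submodule F[X] M)).resolve_left top_ne_bot
      obtain ⟨w, hw⟩ := exists_isCompl l
      haveI : IsSimpleModule F[X] l := isSimpleModule_iff_isAtom.2 hl
      have hwtop : w ≠ ⊤ := by
        rintro rfl
        exact hl.1 (by simpa using hw.inf_eq_bot)
      have hcard : Nat.card w < n := by
        rw [← hn]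
        obtain ⟨x, -, hx⟩ := SetLike.exists_of_lt (lt_top_iff_ne_top.2 hwtop)
        exact Finite.card_subtype_lt hx
      rw [← Nat.card_congr (LinearMap.ofIsComplProdEquiv hw).toEquiv, Nat.card_prod,
        ih _ hcard w rfl, card_hom_simple, nf_cp_isCompl l w hw, Multiset.count_add,
        Multiset.count_singleton, pow_add]
      congr 1
      by_cases h : cp (F := F) l = cp (F := F) N
      · rw [if_pos h, if_pos h.symm, pow_one]
      · rw [if_neg h, if_neg (fun h' => h h'.symm), pow_zero]

/-- The complements of a submodule correspond to the homomorphisms from one of them. -/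
noncomputable def complEquivHom {R : Type*} [Ring R] {M : Type*} [AddCommGroup M] [Module R M]
    (l w0 : Submodule R M) (h : IsCompl l w0) : {w // IsCompl l w} ≃ (w0 →ₗ[R] l) :=
  (Submodule.isComplEquivProj l).trans
    { toFun := fun f => f.1.domRestrict w0
      invFun := fun φ => ⟨LinearMap.ofIsCompl h LinearMap.id φ,
        fun x => LinearMap.ofIsCompl_apply_left h x⟩
      left_inv := fun f => by
        apply Subtype.ext
        apply LinearMap.ofIsCompl_eq
        · intro u
          rw [LinearMap.id_apply, f.2 u]
        · intro u
          rfl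
      right_inv := fun φ => by
        apply LinearMap.ext
        intro u
        exact LinearMap.ofIsCompl_apply_right h u }

theorem card_compl {M : Type u} [AddCommGroup M] [Module F M] [Module F[X] M]
    [IsScalarTower F F[X] M] [Finite M] [IsSemisimpleModule F[X] M]
    (l w0 : Submodule F[X] M) (h : IsCompl l w0) [IsSimpleModule F[X] l] :
    Nat.card {w // IsCompl l w}
      = Nat.card l ^ (normalizedFactors (cp (F := F) w0)).count (cp (F := F) l) := by
  rw [Nat.card_congr (complEquivHom l w0 h)]
  exact card_hom (F := F) l _ w0 rfl

end Cfsg.Agent.Lib.Helper5.StGL
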