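import Mathlib
import Cfsg.Agent.Lib.Helper5.StGL.Hall
import Cfsg.Agent.Lib.Helper5.StGL.HomCount

/-!
The Moebius function of the submodule lattice of a finite semisimple module over a polynomial ring
over a finite field.
-/

namespace Cfsg.Agent.Lib.Helper5.StGL

open Polynomial Module UniqueFactorizationMonoid IncidenceAlgebra Finset

universe u v

section Psi
variable {F : Type v} [Field F] [DecidableEq F]

/-- One factor of the product. -/
def Tfac (𝕜 : Type*) [CommRing 𝕜] (q d m : ℕ) : 𝕜 := (-1 : 𝕜) ^ m * (q : 𝕜) ^ (d * m * (m - 1) / 2)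

theorem exp_succ (d m : ℕ) : d * (m + 1) * (m + 1 - 1) / 2 = d * m + d * m * (m - 1) / 2 := by
  have h : d * (m + 1) * (m + 1 - 1) = 2 * (d * m) + d * m * (m - 1) := by
    cases m with
    | zero => simp
    | succ k =>
      simp only [Nat.add_sub_cancel]
      ring
  rw [h, Nat.mul_add_div (by norm_num)]

theorem Tfac_succ (𝕜 : Type*) [CommRing 𝕜] (q d m : ℕ) :
    Tfac 𝕜 q d (m + 1) = -((q : 𝕜) ^ (d * m)) * Tfac 𝕜 q d m := by
  unfold Tfac
  rw [exp_succ, pow_add, pow_succ]
  ring

theorem Tfac_zero (𝕜 : Type*) [CommRing 𝕜] (q d : ℕ) : Tfac 𝕜 q d 0 = 1 := by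
  unfold Tfac
  simp

/-- The product over the irreducible factors. -/
noncomputable def Psi (𝕜 : Type*) [CommRing 𝕜] (q : ℕ) (P : F[X]) : 𝕜 :=
  ∏ f ∈ (normalizedFactors P).toFinset, Tfac 𝕜 q f.natDegree ((normalizedFactors P).count f)

theorem Psi_one (𝕜 : Type*) [CommRing 𝕜] (q : ℕ) : Psi 𝕜 q (1 : F[X]) = 1 := by
  unfold Psi
  rw [normalizedFactors_one]
  simp

theorem Psi_eq_erase (𝕜 : Type*) [CommRing 𝕜] (q : ℕ) (P g : F[X]) :
    Psi 𝕜 q P = Tfac 𝕜 q g.natDegree ((normalizedFactors P).count g) *
      ∏ f ∈ (normalizedFactors P).toFinset.erase g,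
        Tfac 𝕜 q f.natDegree ((normalizedFactors P).count f) := by
  unfold Psi
  by_cases hg : g ∈ (normalizedFactors P).toFinset
  · exact (Finset.mul_prod_erase _ _ hg).symm
  · rw [Finset.erase_eq_of_notMem hg]
    rw [Multiset.mem_toFinset] at hg
    rw [Multiset.count_eq_zero_of_notMem hg, Tfac_zero, one_mul]

theorem Psi_mul_irreducible (𝕜 : Type*) [CommRing 𝕜] (q : ℕ) (P g : F[X]) (hP : P ≠ 0)
    (hg : Irreducible g) (hmon : g.Monic) :
    Psi 𝕜 q (P * g) = -((q : 𝕜) ^ (g.natDegree * (normalizedFactors P).count g)) * Psi 𝕜 q P := by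
  have hnf : normalizedFactors (P * g) = normalizedFactors P + {g} := by
    rw [normalizedFactors_mul hP hg.ne_zero, normalizedFactors_irreducible hg,
      Polynomial.Monic.normalize_eq_self hmon]
  rw [Psi_eq_erase 𝕜 q (P * g) g, Psi_eq_erase 𝕜 q P g, hnf, Multiset.count_add,
    Multiset.count_singleton_self, Tfac_succ, mul_assoc]
  congr 2
  have hS : (normalizedFactors P + {g}).toFinset.erase g = (normalizedFactors P).toFinset.erase g := by
    rw [Multiset.toFinset_add, Multiset.toFinset_singleton]
    ext f
    simp only [mem_erase, mem_union, mem_singleton]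
    tauto
  rw [hS]
  refine Finset.prod_congr rfl fun f hf => ?_
  rw [mem_erase] at hf
  rw [Multiset.count_add, Multiset.count_singleton, if_neg hf.1, add_zero]

end Psi

section main
variable {F : Type v} [Field F] [Fintype F] [DecidableEq F]

theorem card_simple_sub {M : Type u} [AddCommGroup M] [Module F M] [Module F[X] M]
    [IsScalarTower F F[X] M] [Finite M] (l : Submodule F[X] M) :
    Nat.card l = Fintype.card F ^ (cp (F := F) l).natDegree := by
  rw [cp_natDegree, Module.natCard_eq_pow_finrank (K := F), Nat.card_eq_fintype_card]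

/-- The Moebius function of the submodule lattice of a finite semisimple module. -/
theorem mu_semisimple (𝕜 : Type*) [CommRing 𝕜] :
    ∀ (n : ℕ) (M : Type u) [AddCommGroup M] [Module F M] [Module F[X] M] [IsScalarTower F F[X] M]
      [Finite M] [IsSemisimpleModule F[X] M] [LocallyFiniteOrder (Submodule F[X] M)]
      [DecidableEq (Submodule F[X] M)], Nat.card M = n →
      mu 𝕜 (⊥ : Submodule F[X] M) ⊤ = Psi 𝕜 (Fintype.card F) (cp (F := F) M) := by
  intro n
  induction n using Nat.strong_induction_on with
  | _ n ih =>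
    intro M _ _ _ _ _ _ _ _ hn
    by_cases hsub : Subsingleton M
    · have : (⊥ : Submodule F[X] M) = ⊤ := Subsingleton.elim _ _
      rw [cp_subsingleton M, Psi_one, this, mu_self]
    · rw [not_subsingleton_iff_nontrivial] at hsub
      obtain ⟨l, hl, -⟩ := (eq_bot_or_exists_atom_le (⊤ : Submodule F[X] M)).resolve_left top_ne_bot
      obtain ⟨w0, hw0⟩ := exists_isCompl l
      haveI : IsSimpleModule F[X] l := isSimpleModule_iff_isAtom.2 hl
      have hirr := (simple_structure (F := F) l).1
      -- the recursion
      have hW := weisner (𝕜 := 𝕜) l (⊤ : Submodule F[X] M) hl.1 le_top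
      set S := (Icc (⊥ : Submodule F[X] M) ⊤).filter (fun w => w ⊔ l = ⊤) with hS
      have htop : (⊤ : Submodule F[X] M) ∈ S := by
        rw [hS, mem_filter, mem_Icc]
        exact ⟨⟨bot_le, le_rfl⟩, top_sup_eq _⟩
      have hmem : ∀ w, w ∈ S.erase ⊤ ↔ IsCompl l w := by
        intro w
        rw [mem_erase, hS, mem_filter, mem_Icc]
        constructor
        · rintro ⟨h1, -, h2⟩
          refine IsCompl.of_eq ?_ (by rw [sup_comm]; exact h2)
          by_contra hne
          have hlw : l ≤ w := by
            have h3 : l ⊓ w ≤ l := inf_le_left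
            rcases hl.le_iff.1 h3 with h4 | h4
            · exact absurd h4 hne
            · exact inf_eq_left.1 h4
          exact h1 (by rw [← h2]; exact (sup_eq_left.2 hlw).symm)
        · intro hc
          refine ⟨?_, ⟨bot_le, le_top⟩, by rw [sup_comm]; exact hc.sup_eq_top⟩
          rintro rfl
          exact hl.1 (by simpa using hc.inf_eq_bot)
      rw [← Finset.add_sum_erase _ _ htop] at hW
      -- the terms
      have hterm : ∀ w ∈ S.erase ⊤, mu 𝕜 (⊥ : Submodule F[X] M) w
          = Psi 𝕜 (Fintype.card F) (cp (F := F) w0) := by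
        intro w hw
        rw [hmem] at hw
        have hwtop : w ≠ ⊤ := by
          rintro rfl
          exact hl.1 (by simpa using hw.inf_eq_bot)
        have hcard : Nat.card w < n := by
          rw [← hn]
          obtain ⟨x, -, hx⟩ := SetLike.exists_of_lt (lt_top_iff_ne_top.2 hwtop)
          exact Finite.card_subtype_lt hx
        classical
        letI : Fintype (Submodule F[X] w) := Fintype.ofFinite _
        letI : LocallyFiniteOrder (Submodule F[X] w) := Fintype.toLocallyFiniteOrder
        have h1 := ih _ hcard w rfl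
        have h2 := mu_map_of_lower (𝕜 := 𝕜) (Submodule.MapSubtype.orderEmbedding w)
          (fun x y hy => ⟨Submodule.comap w.subtype y, by
            rw [Submodule.map_subtype_embedding_eq] at hy
            rw [Submodule.map_subtype_embedding_eq, Submodule.map_comap_subtype]
            exact inf_eq_right.2 (hy.trans (Submodule.map_subtype_le w x))⟩) ⊥ _ ⊤ rfl
        rw [Submodule.map_subtype_embedding_eq, Submodule.map_subtype_embedding_eq,
          Submodule.map_bot, Submodule.map_subtype_top] at h2
        rw [h2, h1]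
        congr 1
        have e1 := cp_of_isCompl (F := F) w l hw.symm
        have e2 := cp_of_isCompl (F := F) w0 l hw0.symm
        exact mul_right_cancel₀ (cp_ne_zero (F := F) l) (e1.symm.trans e2)
      rw [Finset.sum_congr rfl hterm, Finset.sum_const, nsmul_eq_mul] at hW
      -- the count
      have hcount : (S.erase ⊤).card
          = Fintype.card F ^ ((cp (F := F) l).natDegree *
              (normalizedFactors (cp (F := F) w0)).count (cp (F := F) l)) := by
        rw [pow_mul, ← card_simple_sub, ← card_compl l w0 hw0, Nat.subtype_card (S.erase ⊤) hmem]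
      rw [cp_of_isCompl (F := F) w0 l hw0.symm,
        Psi_mul_irreducible 𝕜 _ _ _ (cp_ne_zero _) hirr (cp_monic _), ← Nat.cast_pow, ← hcount]
      linear_combination hW

end main

end Cfsg.Agent.Lib.Helper5.StGL
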