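import Mathlib
import Cfsg.Prelude.Def_LinearParabolics
import Cfsg.Agent.Lib.Helper5.StGL.Chain2
import Cfsg.Agent.Lib.Helper5.StGL.Main

/-!
The class function for the partition into ones at an element whose order is prime to the
characteristic.
-/

namespace Cfsg.Agent.Lib.Helper5.StGL

open Module Finset Matrix Polynomial IncidenceAlgebra UniqueFactorizationMonoid

variable {n : ℕ} {F : Type*} [Field F] [Fintype F]

instance finite_aeval (a : Module.End F (Fin n → F)) : Finite (Module.AEval' a) :=
  Finite.of_equiv (Fin n → F) (Module.AEval'.of a).toEquiv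

theorem cp_aeval (a : Module.End F (Fin n → F)) : cp (F := F) (Module.AEval' a) = a.charpoly := by
  unfold cp
  rw [← LinearEquiv.charpoly_conj (Module.AEval'.of a) a]
  congr 1
  apply LinearMap.ext
  intro m
  rw [LinearEquiv.conj_apply_apply, Xmul_apply]
  obtain ⟨v, rfl⟩ := (Module.AEval'.of a).surjective m
  rw [LinearEquiv.symm_apply_apply, Module.AEval'.X_smul_of]

theorem cp_aOf (x : GL (Fin n) F) :
    cp (F := F) (Module.AEval' (aOf x)) = (x : Matrix (Fin n) (Fin n) F).charpoly := by
  rw [cp_aeval]
  unfold aOf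
  rw [← Matrix.toLin'_apply', Matrix.charpoly_toLin']

theorem aOf_pow (x : GL (Fin n) F) (m : ℕ) : (aOf x) ^ m = aOf (x ^ m) := by
  induction m with
  | zero =>
    rw [pow_zero, pow_zero]
    unfold aOf
    rw [Units.val_one, Matrix.mulVecLin_one]
    rfl
  | succ m ih =>
    rw [pow_succ, pow_succ, ih]
    unfold aOf
    rw [Units.val_mul, Matrix.mulVecLin_mul]
    rfl

theorem isSemisimple_aOf (p : ℕ) [Fact p.Prime] [CharP F p] (x : GL (Fin n) F)
    (hx : (orderOf x).Coprime p) : IsSemisimpleModule F[X] (Module.AEval' (aOf x)) := by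
  have hp : ¬ p ∣ orderOf x := by
    rw [← Nat.Prime.coprime_iff_not_dvd (Fact.out : p.Prime)]
    exact hx.symm
  have hsep : (X ^ orderOf x - C (1 : F)).Separable :=
    separable_X_pow_sub_C' p (orderOf x) 1 hp one_ne_zero
  have hzero : aeval (aOf x) (X ^ orderOf x - C (1 : F)) = 0 := by
    rw [map_sub, map_pow, aeval_X, aeval_C, aOf_pow, pow_orderOf_eq_one, map_one]
    unfold aOf
    rw [Units.val_one, Matrix.mulVecLin_one]
    exact sub_self _
  exact Module.End.isSemisimple_of_squarefree_aeval_eq_zero hsep.squarefree hzero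

variable [DecidableEq F]

theorem natDegree_eq_sum (P : F[X]) (hP : P.Monic) :
    P.natDegree = ∑ f ∈ (normalizedFactors P).toFinset,
      (normalizedFactors P).count f * f.natDegree := by
  have h1 : Associated (normalizedFactors P).prod P := prod_normalizedFactors hP.ne_zero
  have h2 := natDegree_eq_of_degree_eq (degree_eq_degree_of_associated h1)
  rw [← h2, natDegree_multiset_prod _ (zero_notMem_normalizedFactors P),
    Finset.sum_multiset_map_count]
  rfl

theorem sign_mul_Psi (q : ℕ) (P : F[X]) (hP : P.Monic) :
    (-1 : ℂ) ^ P.natDegree * Psi ℂ q P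
      = ∏ f ∈ (normalizedFactors P).toFinset,
          (-1 : ℂ) ^ ((f.natDegree - 1) * (normalizedFactors P).count f) *
            (q : ℂ) ^ (f.natDegree * (normalizedFactors P).count f *
              ((normalizedFactors P).count f - 1) / 2) := by
  unfold Psi Tfac
  conv_lhs => rw [natDegree_eq_sum P hP]
  rw [← Finset.prod_pow_eq_pow_sum, ← Finset.prod_mul_distrib]
  refine Finset.prod_congr rfl fun f hf => ?_
  rw [Multiset.mem_toFinset] at hf
  have hirr : Irreducible f := irreducible_of_normalized_factor f hf
  have hd : 1 ≤ f.natDegree := Polynomial.natDegree_pos_iff_degree_pos.2 (Polynomial.degree_pos_of_irreducible hirr)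
  rw [← mul_assoc, ← pow_add]
  congr 1
  have e : (normalizedFactors P).count f * f.natDegree + (normalizedFactors P).count f
      = (f.natDegree - 1) * (normalizedFactors P).count f + 2 * (normalizedFactors P).count f := by
    obtain ⟨d, hd'⟩ : ∃ d, f.natDegree = d + 1 := ⟨f.natDegree - 1, by omega⟩
    rw [hd']
    simp only [Nat.add_sub_cancel]
    ring
  rw [e, pow_add, pow_mul (-1 : ℂ) 2]
  norm_num

/-- The value at an element of order prime to the characteristic, in positive degree. -/
theorem steinberg_value (hn : 0 < n) {q : ℕ} (hq : Fintype.card F = q) (p : ℕ) [Fact p.Prime]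
    [CharP F p] (x : GL (Fin n) F) (hx : (orderOf x).Coprime p) :
    Cfsg.unipotentCharacterGL n F (fun _ => 1) x
      = ∏ f ∈ (normalizedFactors (x : Matrix (Fin n) (Fin n) F).charpoly).toFinset,
          (-1 : ℂ) ^ ((f.natDegree - 1) *
            (normalizedFactors (x : Matrix (Fin n) (Fin n) F).charpoly).count f) *
            (q : ℂ) ^ (f.natDegree *
              (normalizedFactors (x : Matrix (Fin n) (Fin n) F).charpoly).count f *
              ((normalizedFactors (x : Matrix (Fin n) (Fin n) F).charpoly).count f - 1) / 2) := by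
  classical
  haveI := isSemisimple_aOf p x hx
  letI : Fintype (Submodule F[X] (Module.AEval' (aOf x))) := Fintype.ofFinite _
  letI : LocallyFiniteOrder (Submodule F[X] (Module.AEval' (aOf x))) :=
    Fintype.toLocallyFiniteOrder
  rw [steinberg_eq_mu hn x, mu_semisimple ℂ _ (Module.AEval' (aOf x)) rfl, cp_aOf, hq]
  have hmon : (x : Matrix (Fin n) (Fin n) F).charpoly.Monic := Matrix.charpoly_monic _
  have hdeg : (x : Matrix (Fin n) (Fin n) F).charpoly.natDegree = n := by
    rw [Matrix.charpoly_natDegree_eq_dim, Fintype.card_fin]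
  rw [← sign_mul_Psi q _ hmon, hdeg]

end Cfsg.Agent.Lib.Helper5.StGL
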